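import Groth.Agent.L28.EtTrace.Basic
import Groth.Agent.L27.LimCoh.HComp
import Groth.Agent.L27.LimCoh.PushSys
import Mathlib.RingTheory.Etale.Field
import Mathlib.RingTheory.RingHom.Etale

/-!
Classes in positive degree on the spectrum of a field die in finite separable extensions.
-/

set_option autoImplicit false
set_option linter.style.haveILetI false
set_option linter.unusedSectionVars false
set_option backward.isDefEq.respectTransparency.types false

universe u

open CategoryTheory CategoryTheory.Limits AlgebraicGeometry Opposite CategoryTheory.Abelian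
open Groth.L27.LimCoh (secEq secEq_map δH exists_δH Hpull_δH δH_map_g eq_zero_of_injective gamma)

namespace Groth.L28.EtTrace

/-- pulling back kills the boundary of a section which lifts -/
theorem Hpull_δ_eq_zero_of_lift {X Y : Scheme.{u}} (j : Y ⟶ X) [PreservesFiniteLimits (EtCoh.pull j)]
    {E : ShortComplex (EtCoh.Ab X)} (hE : E.ShortExact) (y : EtCoh.H X E.X₃ 0) {U' : X.Etale}
    (toTop : U' ⟶ EtCoh.top X) (σ : EtCoh.top Y ⟶ (EtCoh.bc j).obj U') (s' : E.X₂.obj.obj (op U'))
    (hs' : E.g.hom.app (op U') s' = E.X₃.obj.map toTop.op (secEq E.X₃ y)) :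
    EtCore.Hpull j E.X₁ 1 (δH hE 0 y) = 0 := by
  rw [Hpull_δH j hE]
  let z₀ : EtCoh.H Y ((EtCoh.pull j).obj E.X₂) 0 :=
    (secEq _).symm (((EtCoh.pull j).obj E.X₂).obj.map σ.op
      (((EtCoh.pullPushAdj j).unit.app E.X₂).hom.app (op U') s'))
  have hy : EtCore.Hpull j E.X₃ 0 y = (EtCoh.HF Y 0).map ((EtCoh.pull j).map E.g) z₀ := by
    refine (secEq _).injective ?_
    rw [secEq_map, Groth.L27.EtSite.Hpull_apply, Groth.L27.LimCoh.secEq_HofPush, ← Groth.L27.EtSite.HF_map_apply,
      secEq_map, AddEquiv.apply_symm_apply]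
    refine Eq.trans ?_ (NatTrans.naturality_apply ((EtCoh.pull j).map E.g).hom σ.op _).symm
    have hu : ((EtCoh.pull j).map E.g).hom.app (op ((EtCoh.bc j).obj U'))
        (((EtCoh.pullPushAdj j).unit.app E.X₂).hom.app (op U') s') =
        ((EtCoh.pullPushAdj j).unit.app E.X₃).hom.app (op U') (E.g.hom.app (op U') s') :=
      (congrArg (fun k : E.X₂ ⟶ (EtCoh.push j).obj ((EtCoh.pull j).obj E.X₃) => k.hom.app (op U') s')
        ((EtCoh.pullPushAdj j).unit.naturality E.g)).symm
    refine Eq.trans ?_ (congrArg (((EtCoh.pull j).obj E.X₃).obj.map σ.op) hu).symm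
    rw [hs']
    refine Eq.trans ?_ (congrArg (((EtCoh.pull j).obj E.X₃).obj.map σ.op)
      (NatTrans.naturality_apply ((EtCoh.pullPushAdj j).unit.app E.X₃).hom toTop.op (secEq E.X₃ y))).symm
    refine Eq.trans ?_ (CategoryTheory.Functor.map_comp_apply ((EtCoh.pull j).obj E.X₃).obj _ _ _)
    exact congrArg (fun l => ((EtCoh.pull j).obj E.X₃).obj.map (Quiver.Hom.op l)
      (((EtCoh.pullPushAdj j).unit.app E.X₃).hom.app (op (EtCoh.top X)) (secEq E.X₃ y)))
      ((EtCore.bcTopIsTerminal j).hom_ext _ _)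
  rw [hy]
  exact δH_map_g (hE.map_of_exact (EtCoh.pull j)) 0 z₀

section Comp

variable {X Y Z : Scheme.{u}} (f : Z ⟶ Y) (g : Y ⟶ X) {k : Z ⟶ X} (w : f ≫ g = k)

theorem gamma_retraction (F : EtCoh.Ab X) : ∃ r, gamma f g w F ≫ r = 𝟙 ((EtCoh.pull k).obj F) := by
  let ψ : F ⟶ (EtCoh.push g).obj ((EtCoh.push f).obj ((EtCoh.pull k).obj F)) :=
    (EtCoh.pullPushAdj k).unit.app F ≫ Groth.L27.LimCoh.pushSplit f g w _
  refine ⟨(EtCoh.pull f).map (((EtCoh.pullPushAdj g).homEquiv _ _).symm ψ) ≫
    ((EtCoh.pullPushAdj f).homEquiv _ _).symm (𝟙 _), ((EtCoh.pullPushAdj k).homEquiv _ _).injective ?_⟩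
  rw [Groth.L27.LimCoh.homEquiv_gamma_comp, CategoryTheory.Functor.map_id, Category.id_comp, Category.assoc,
    Groth.L27.LimCoh.pushSplit_pushJoin, Adjunction.homEquiv_unit, CategoryTheory.Functor.map_id]

variable [PreservesFiniteLimits (EtCoh.pull f)] [PreservesFiniteLimits (EtCoh.pull g)]
  [PreservesFiniteLimits (EtCoh.pull k)]

include w in
theorem Hpull_comp_eq_zero_iff (F : EtCoh.Ab X) (n : ℕ) (e : EtCoh.H X F n) :
    EtCore.Hpull f _ n (EtCore.Hpull g F n e) = 0 ↔ EtCore.Hpull k F n e = 0 := by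
  rw [Groth.L27.LimCoh.Hpull_comp f g w]
  refine ⟨fun h => ?_, fun h => by rw [h]; exact map_zero ((EtCoh.HF Z n).map (gamma f g w F)).hom⟩
  obtain ⟨r, hr⟩ := gamma_retraction f g w F
  have h' := congrArg ((EtCoh.HF Z n).map r) h
  rw [← Groth.L27.LimCoh.HF_map_comp, hr] at h'
  exact ((congrArg (fun q => q.hom (EtCore.Hpull k F n e)) ((EtCoh.HF Z n).map_id _)).symm.trans h').trans
    (map_zero ((EtCoh.HF Z n).map r).hom)

end Comp

section Field

variable (K L : Type u) [Field K] [Field L] [Algebra K L] [FiniteDimensional K L]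

/-- the morphism of spectra of an extension -/
noncomputable abbrev specExt : Spec (CommRingCat.of L) ⟶ Spec (CommRingCat.of K) :=
  Spec.map (CommRingCat.ofHom (algebraMap K L))

instance isFinite_specExt : IsFinite (specExt K L) :=
  (IsFinite.SpecMap_iff _).2 (RingHom.finite_algebraMap.2 inferInstance)

theorem etale_specExt [Algebra.IsSeparable K L] : AlgebraicGeometry.Etale (specExt K L) := by
  haveI : Algebra.FormallyEtale K L := Algebra.FormallyEtale.of_isSeparable K L
  haveI : Algebra.FinitePresentation K L := Algebra.FinitePresentation.of_finiteType.1 inferInstance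
  haveI : Algebra.Etale K L := {}
  exact (HasRingHomProperty.Spec_iff (P := @AlgebraicGeometry.Etale)).2 (RingHom.etale_algebraMap.2 inferInstance)

theorem finrank_specExt (x : Spec (CommRingCat.of K)) : (specExt K L).finrank x = Module.finrank K L := by
  refine (Scheme.Hom.finrank_SpecMap_algebraMap K L x).trans ?_
  rw [Module.rankAtStalk_eq_finrank_of_free]
  rfl

/-- the degree of a splitting extension kills a class -/
theorem finrank_nsmul_eq_zero [Algebra.IsSeparable K L] [PreservesFiniteLimits (EtCoh.pull (specExt K L))]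
    (F : EtCoh.Ab (Spec (CommRingCat.of K))) (i : ℕ) (α : EtCoh.H (Spec (CommRingCat.of K)) F i)
    (hα : EtCore.Hpull (specExt K L) F i α = 0) : Module.finrank K L • α = 0 := by
  haveI := etale_specExt K L
  exact nsmul_eq_zero_of_Hpull (specExt K L) _ (finrank_specExt K L) F i α hα

end Field

/-- classes in positive degree die in a finite separable extension -/
theorem exists_killing (K : Type u) [Field K] (i : ℕ) :
    ∀ (F : EtCoh.Ab (Spec (CommRingCat.of K))) (α : EtCoh.H (Spec (CommRingCat.of K)) F (i + 1)),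
      ∃ (L : Type u) (_ : Field L) (_ : Algebra K L) (_ : FiniteDimensional K L) (_ : Algebra.IsSeparable K L),
        ∀ [PreservesFiniteLimits (EtCoh.pull (specExt K L))], EtCore.Hpull (specExt K L) F (i + 1) α = 0 := by
  induction i with
  | zero =>
    intro F α
    let E : ShortComplex (EtCoh.Ab (Spec (CommRingCat.of K))) :=
      ShortComplex.mk (Injective.ι F) (cokernel.π _) (cokernel.condition _)
    have hE : E.ShortExact :=
      { exact := ShortComplex.exact_of_g_is_cokernel _ (cokernelIsCokernel _)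
        mono_f := inferInstanceAs (Mono (Injective.ι F))
        epi_g := inferInstanceAs (Epi (cokernel.π (Injective.ι F))) }
    haveI : Injective E.X₂ := inferInstanceAs (Injective (Injective.under F))
    obtain ⟨y, rfl⟩ := exists_δH hE 0 α (eq_zero_of_injective E.X₂ 0 _)
    haveI : IsAffine (EtCoh.top (Spec (CommRingCat.of K))).left := inferInstanceAs (IsAffine (Spec (CommRingCat.of K)))
    obtain ⟨V, p, haff, hsurj, s, hs⟩ := Groth.L28.EtCartan.exists_affine_lift hE
      (U := EtCoh.top (Spec (CommRingCat.of K))) (secEq E.X₃ y)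
    let A := Γ(V.left, ⊤)
    let v : V.left ⟶ Spec (CommRingCat.of K) := V.hom
    haveI : AlgebraicGeometry.Etale v := V.prop
    haveI : IsAffine V.left := haff
    let φ : K →+* A := v.appTop.hom.comp (Scheme.ΓSpecIso (CommRingCat.of K)).inv.hom
    letI := φ.toAlgebra
    haveI : Algebra.Etale K A :=
      RingHom.Etale.respectsIso.2 v.appTop.hom (Scheme.ΓSpecIso (CommRingCat.of K)).symm.commRingCatIsoToRingEquiv
        (HasRingHomProperty.appTop @AlgebraicGeometry.Etale v ‹_›)
    haveI : Module.Finite K A := Algebra.FormallyUnramified.finite_of_free K A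
    haveI : Nontrivial A := by
      obtain ⟨z, -⟩ := p.left.surjective (default : Spec (CommRingCat.of K))
      exact ⟨⟨0, 1, fun h => (V.left.toSpecΓ z).isPrime.ne_top ((Ideal.eq_top_iff_one _).2 (h ▸ Ideal.zero_mem _))⟩⟩
    obtain ⟨m, hm⟩ := Ideal.exists_maximal A
    letI := Ideal.Quotient.field m
    refine ⟨A ⧸ m, inferInstance, inferInstance, inferInstance, inferInstance, ?_⟩
    intro _
    let r : Spec (CommRingCat.of (A ⧸ m)) ⟶ V.left :=
      Spec.map (CommRingCat.ofHom (Ideal.Quotient.mk m)) ≫ V.left.isoSpec.inv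
    have hr : r ≫ v = specExt K (A ⧸ m) := by
      have hv : V.left.isoSpec.inv ≫ v = Spec.map v.appTop ≫ (Spec (CommRingCat.of K)).isoSpec.inv := by
        rw [Iso.inv_comp_eq, ← Category.assoc, Iso.eq_comp_inv]
        exact (Scheme.isoSpec_hom_naturality v).symm
      rw [Category.assoc, hv, Scheme.isoSpec_Spec_inv, ← Spec.map_comp, ← Spec.map_comp]
      rfl
    let σ : EtCoh.top _ ⟶ (EtCoh.bc (specExt K (A ⧸ m))).obj V :=
      Groth.L27.LimCoh.lift (specExt K (A ⧸ m)) r (by
        show r ≫ v = 𝟙 _ ≫ _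
        rw [hr, Category.id_comp])
    exact Hpull_δ_eq_zero_of_lift _ hE y p σ s hs
  | succ i ih =>
    intro F α
    let E : ShortComplex (EtCoh.Ab (Spec (CommRingCat.of K))) :=
      ShortComplex.mk (Injective.ι F) (cokernel.π _) (cokernel.condition _)
    have hE : E.ShortExact :=
      { exact := ShortComplex.exact_of_g_is_cokernel _ (cokernelIsCokernel _)
        mono_f := inferInstanceAs (Mono (Injective.ι F))
        epi_g := inferInstanceAs (Epi (cokernel.π (Injective.ι F))) }
    haveI : Injective E.X₂ := inferInstanceAs (Injective (Injective.under F))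
    obtain ⟨y, rfl⟩ := exists_δH hE (i + 1) α (eq_zero_of_injective E.X₂ _ _)
    obtain ⟨L, _, _, _, _, hL⟩ := ih E.X₃ y
    refine ⟨L, inferInstance, inferInstance, inferInstance, inferInstance, ?_⟩
    intro _
    exact (Hpull_δH (specExt K L) hE (i + 1) y).trans ((congrArg (δH _ (i + 1)) hL).trans (map_zero _))

end Groth.L28.EtTrace
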