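import Groth.Agent.L11.CSA.CyclicNorm
import Groth.Agent.L21.CSA.RedNorm
import Mathlib.GroupTheory.SpecificGroups.Cyclic
import Mathlib.RingTheory.AlgebraicIndependent.TranscendenceBasis

/-!
Norms from cyclic extensions when the Brauer group is trivial.
-/

set_option autoImplicit false
set_option linter.unusedSectionVars false

universe u

namespace Groth.L28.EtTrace

/-- every central division algebra is trivial -/
def BrTrivial (E : Type u) [Field E] : Prop :=
  ∀ (D : Type u) [DivisionRing D] [Algebra E D] [Algebra.IsCentral E D] [FiniteDimensional E D],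
    Module.finrank E D = 1

/-- every norm map of a Galois extension of degree `p` is surjective -/
def NormSurj (p : ℕ) (E : Type u) [Field E] : Prop :=
  ∀ (L : Type u) [Field L] [Algebra E L] [FiniteDimensional E L] [IsGalois E L],
    Module.finrank E L = p → ∀ x : E, x ≠ 0 → ∃ y : L, Algebra.norm E y = x

theorem splits_of_brTrivial (k : Type u) [Field k] (h : BrTrivial k) (A : Type u) [Ring A] [Algebra k A]
    [Algebra.IsCentral k A] [IsSimpleRing A] [FiniteDimensional k A] : Curves.Splits k A k := by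
  have := Groth.L11.CSA.isArtinianRing_of_finite k A
  obtain ⟨n, hn, D, hD, hA, hDf, ⟨e⟩⟩ := IsSimpleRing.exists_algEquiv_matrix_divisionRing_finite k A
  have hDc : Algebra.IsCentral k D := ⟨fun x hx => by
    have : Matrix.scalar (Fin n) x ∈ Subalgebra.center k (Matrix (Fin n) (Fin n) D) :=
      Subalgebra.mem_center_iff.mpr fun M => ((Matrix.scalar_commute x (fun y => (Subalgebra.mem_center_iff.mp hx y).symm) M).eq).symm
    have : e.symm (Matrix.scalar (Fin n) x) ∈ Subalgebra.center k A :=
      Subalgebra.mem_center_iff.mpr fun a => e.injective (by rw [map_mul, map_mul, e.apply_symm_apply, Subalgebra.mem_center_iff.mp this (e a)])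
    rw [Algebra.IsCentral.center_eq_bot, Algebra.mem_bot] at this
    obtain ⟨r, hr⟩ := this
    refine Algebra.mem_bot.mpr ⟨r, ?_⟩
    have := congrArg (fun z => e z 0 0) hr
    simpa [Matrix.algebraMap_eq_diagonal] using this⟩
  let eD : k ≃ₐ[k] D := AlgEquiv.ofBijective (Algebra.ofId k D) ⟨(algebraMap k D).injective,
    (LinearMap.injective_iff_surjective_of_finrank_eq_finrank (f := (Algebra.ofId k D).toLinearMap)
      (by rw [Module.finrank_self, h D])).1 (algebraMap k D).injective⟩
  exact ⟨n, hn.ne, ⟨((Algebra.TensorProduct.lid k A).trans e).trans eD.symm.mapMatrix⟩⟩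

theorem normSurj_of_brTrivial (E : Type u) [Field E] (h : BrTrivial E) (p : ℕ) [Fact p.Prime] : NormSurj p E := by
  intro L _ _ _ _ hL x hx
  haveI : IsCyclic (L ≃ₐ[E] L) := isCyclic_of_prime_card (p := p) (by rw [IsGalois.card_aut_eq_finrank, hL])
  obtain ⟨σ, hσ⟩ := IsCyclic.exists_zpow_surjective (G := L ≃ₐ[E] L)
  have hσ' : ∀ τ : L ≃ₐ[E] L, τ ∈ Subgroup.zpowers σ := fun τ => Subgroup.mem_zpowers_iff.2 (hσ τ)
  obtain ⟨B, _, _, R, hd⟩ := Groth.L11.Cyc.exists_cyclicAlg hσ' (Units.mk0 x hx)
  haveI := R.isCentral hσ' hd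
  haveI := R.isSimpleRing hσ' hd
  haveI : FiniteDimensional E B := Module.finite_of_finrank_pos (by rw [hd]; exact pow_pos Module.finrank_pos 2)
  exact Groth.L11.Cyc.exists_norm_of_splits hσ' R hd (splits_of_brTrivial E h B)

theorem isCr_of_isCi {K : Type*} [Field K] {i : ℕ} (h : Curves.IsCi K i) : Curves.IsCr K i := by
  intro n d f hf hd hn
  obtain ⟨a, ha, h0⟩ := h 1 n (fun _ => f) (fun _ => d) (fun _ => hf) (fun _ => hd) (by simpa using hn)
  exact ⟨a, ha, h0 0⟩

theorem brTrivial_of_isCi {K : Type u} [Field K] (h : Curves.IsCi K 1) : BrTrivial K :=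
  fun D _ _ _ _ => Groth.L21.CSA.finrank_eq_one_of_C1 K D (isCr_of_isCi h)

theorem trdeg_finite_ext (k : Type u) [Field k] (K : Type u) [Field K] [Algebra k K]
    (hK : Algebra.trdeg k K = 1) (E : Type u) [Field E] [Algebra K E] [FiniteDimensional K E]
    [Algebra k E] [IsScalarTower k K E] : Algebra.trdeg k E = 1 := by
  rw [← trdeg_add_eq k K (A := E), hK, trdeg_eq_zero, add_zero]

end Groth.L28.EtTrace
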