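import Groth.Agent.L28.EtTrace.Field
import Groth.Agent.L27.EtSite.Pull
import Groth.Agent.L27.Colim.RpushTorsion
import Mathlib.FieldTheory.Galois.Basic
import Mathlib.FieldTheory.Normal.Closure
import Mathlib.FieldTheory.SeparableClosure
import Mathlib.GroupTheory.Sylow
import Mathlib.CategoryTheory.Sites.ConstantSheaf
import Mathlib.GroupTheory.Torsion

/-!
Torsion, degrees and cohomological dimension for spectra of fields.
-/

set_option autoImplicit false
set_option linter.style.haveILetI false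
set_option linter.unusedSectionVars false
set_option backward.isDefEq.respectTransparency.types false

universe u

open CategoryTheory CategoryTheory.Limits AlgebraicGeometry Opposite CategoryTheory.Abelian

namespace Groth.L28.EtTrace

variable (K : Type u) [Field K]

theorem isOfFinAddOrder_class (F : EtCoh.Ab (Spec (CommRingCat.of K))) (i : ℕ) (hi : 0 < i)
    (x : EtCoh.H (Spec (CommRingCat.of K)) F i) : IsOfFinAddOrder x := by
  obtain ⟨j, rfl⟩ : ∃ j, i = j + 1 := ⟨i - 1, by omega⟩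
  obtain ⟨L, _, _, _, _, hL⟩ := exists_killing K j F x
  haveI := Groth.L27.EtSite.preservesFiniteLimits_pull (specExt K L)
  exact isOfFinAddOrder_iff_nsmul_eq_zero.2 ⟨_, Module.finrank_pos, finrank_nsmul_eq_zero K L F _ x hL⟩

theorem comp_mk₀_nsmul {X : Scheme.{u}} {F : EtCoh.Ab X} (n i : ℕ) (ξ : EtCoh.H X F i) :
    ξ.comp (Ext.mk₀ (n • 𝟙 F)) (add_zero i) = n • ξ := by
  let e : (F ⟶ F) →+ EtCoh.H X F i :=
    AddMonoidHom.mk' (fun f => ξ.comp (Ext.mk₀ f) (add_zero i)) fun a b => by rw [Ext.mk₀_add, Ext.comp_add]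
  show e (n • 𝟙 F) = _
  rw [map_nsmul]
  exact congrArg (n • ·) (Ext.comp_mk₀_id ξ)

theorem eq_zero_of_isIso_nsmul {X : Scheme.{u}} {F : EtCoh.Ab X} (n i : ℕ) [IsIso (n • 𝟙 F)]
    (ξ : EtCoh.H X F i) (h : n • ξ = 0) : ξ = 0 := by
  rw [← comp_mk₀_nsmul] at h
  refine (Ext.comp_mk₀_id ξ).symm.trans ?_
  rw [← IsIso.hom_inv_id (n • 𝟙 F), ← Ext.mk₀_comp_mk₀, ← Ext.comp_assoc_of_third_deg_zero, h, Ext.zero_comp]

theorem subsingleton_of_divisible (F : EtCoh.Ab (Spec (CommRingCat.of K)))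
    (hdiv : ∀ n : ℕ, 0 < n → IsIso (n • 𝟙 F)) (i : ℕ) (hi : 0 < i) :
    Subsingleton (EtCoh.H (Spec (CommRingCat.of K)) F i) := by
  refine subsingleton_of_forall_eq 0 fun x => ?_
  obtain ⟨n, hn, hx⟩ := isOfFinAddOrder_iff_nsmul_eq_zero.1 (isOfFinAddOrder_class K F i hi x)
  haveI := hdiv n hn
  exact eq_zero_of_isIso_nsmul n i x hx

/-- the pullback along an étale morphism of a torsion sheaf is torsion -/
theorem isTorsion_pull {X Y : Scheme.{u}} (f : Y ⟶ X) [AlgebraicGeometry.Etale f] {F : EtCoh.Ab X}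
    (hF : EtCoh.IsTorsion F) : EtCoh.IsTorsion ((EtCoh.pull f).obj F) := by
  haveI := Groth.L27.ExtZero.jCont f
  refine Groth.L27.Colim.isTorsion_of_iso ((Groth.L27.ExtZero.pullRestr f).app F).symm fun U s x => ?_
  obtain ⟨V, g, ⟨v, hv⟩, hfin⟩ := hF ((EtShriek.compEtale f).obj U) s x
  let g₀ : V.left ⟶ U.left := g.left
  haveI : AlgebraicGeometry.Etale U.hom := U.prop
  haveI : AlgebraicGeometry.Etale g₀ := by
    haveI : AlgebraicGeometry.Etale (g₀ ≫ U.hom ≫ f) := by
      rw [show g₀ ≫ U.hom ≫ f = V.hom from MorphismProperty.Over.w g]; exact V.prop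
    exact AlgebraicGeometry.Etale.of_comp g₀ (U.hom ≫ f)
  let V' : Y.Etale := MorphismProperty.Over.mk ⊤ (g₀ ≫ U.hom) (inferInstanceAs (AlgebraicGeometry.Etale (g₀ ≫ U.hom)))
  let g' : V' ⟶ U := MorphismProperty.Over.homMk g₀ rfl
  let m : (EtShriek.compEtale f).obj V' ⟶ V := MorphismProperty.Over.homMk (𝟙 V.left) (by
    show 𝟙 _ ≫ V.hom = (g₀ ≫ U.hom) ≫ f
    rw [Category.id_comp, Category.assoc]
    exact (MorphismProperty.Over.w g).symm)
  refine ⟨V', g', ⟨v, hv⟩, ?_⟩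
  have h := AddMonoidHom.isOfFinAddOrder (F.obj.map m.op).hom hfin
  change IsOfFinAddOrder (F.obj.map m.op (F.obj.map g.op s)) at h
  rw [← CategoryTheory.Functor.map_comp_apply, ← op_comp] at h
  rwa [show m ≫ g = (EtShriek.compEtale f).map g' from MorphismProperty.Over.Hom.ext (Category.id_comp _)] at h

theorem eq_zero_of_coprime {A : Type*} [AddCommGroup A] {a b : ℕ} (h : Nat.Coprime a b) (x : A)
    (ha : a • x = 0) (hb : b • x = 0) : x = 0 := by
  rw [← AddMonoid.addOrderOf_eq_one_iff, ← Nat.dvd_one, ← show Nat.gcd a b = 1 from h]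
  exact Nat.dvd_gcd (addOrderOf_dvd_of_nsmul_eq_zero ha) (addOrderOf_dvd_of_nsmul_eq_zero hb)

theorem cd_le_of_prime_to_degree (L : Type u) [Field L] [Algebra K L] [FiniteDimensional K L]
    [Algebra.IsSeparable K L] (p : ℕ) [Fact p.Prime] (hdeg : ¬ p ∣ Module.finrank K L) (n : ℕ)
    (hcd : ∀ (F : EtCoh.Ab (Spec (CommRingCat.of L))), EtCoh.IsTorsion F → ∀ q : ℕ, n < q →
        ∀ x : EtCoh.H (Spec (CommRingCat.of L)) F q, (∃ m : ℕ, p ^ m • x = 0) → x = 0)
    (F : EtCoh.Ab (Spec (CommRingCat.of K))) (hF : EtCoh.IsTorsion F) (q : ℕ) (hq : n < q)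
    (x : EtCoh.H (Spec (CommRingCat.of K)) F q) (hx : ∃ m : ℕ, p ^ m • x = 0) : x = 0 := by
  haveI := etale_specExt K L
  haveI := Groth.L27.EtSite.preservesFiniteLimits_pull (specExt K L)
  obtain ⟨m, hm⟩ := hx
  have h0 : EtCore.Hpull (specExt K L) F q x = 0 :=
    hcd _ (isTorsion_pull _ hF) q hq _ ⟨m, by rw [← map_nsmul, hm, map_zero]⟩
  exact eq_zero_of_coprime (Nat.Coprime.pow_left m ((Nat.Prime.coprime_iff_not_dvd Fact.out).2 hdeg)) x hm
    (finrank_nsmul_eq_zero K L F q x h0)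

theorem cd_le_of_separable (L : Type u) [Field L] [Algebra K L] [Algebra.IsSeparable K L] (p : ℕ) (n : ℕ)
    (hcd : ∀ (F : EtCoh.Ab (Spec (CommRingCat.of K))), EtCoh.IsTorsion F → ∀ q : ℕ, n < q →
        ∀ x : EtCoh.H (Spec (CommRingCat.of K)) F q, (∃ m : ℕ, p ^ m • x = 0) → x = 0)
    (F : EtCoh.Ab (Spec (CommRingCat.of L))) (hF : EtCoh.IsTorsion F) (q : ℕ) (hq : n < q)
    (x : EtCoh.H (Spec (CommRingCat.of L)) F q) (hx : ∃ m : ℕ, p ^ m • x = 0) : x = 0 := by
  let f : Spec (CommRingCat.of L) ⟶ Spec (CommRingCat.of K) := Spec.map (CommRingCat.ofHom (algebraMap K L))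
  haveI : IsIntegralHom f :=
    (IsIntegralHom.SpecMap_iff).2 (algebraMap_isIntegral_iff.2 inferInstance)
  haveI := Groth.L27.EtSite.preservesFiniteLimits_pull f
  have hb := Groth.L27.EtSite.bijective_HofPush f F
    (fun r hr => Groth.L27.EtSite.isZero_Rpush_of_propB f (Groth.L27.EtSite.propB_of_isIntegralHom f) _ r hr) q
  obtain ⟨y, rfl⟩ := hb.2 x
  obtain ⟨m, hm⟩ := hx
  rw [hcd _ (Groth.L27.Colim.isTorsion_push f hF) q hq y
    ⟨m, hb.1 (by rw [map_nsmul, hm, map_zero])⟩, map_zero]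

set_option maxHeartbeats 2000000 in
theorem exists_killing_prime_to (F : EtCoh.Ab (Spec (CommRingCat.of K))) (i : ℕ)
    (α : EtCoh.H (Spec (CommRingCat.of K)) F i) (L : Type u) [Field L] [Algebra K L] [FiniteDimensional K L]
    [Algebra.IsSeparable K L] [PreservesFiniteLimits (EtCoh.pull (specExt K L))]
    (hα : EtCore.Hpull (specExt K L) F i α = 0) (p : ℕ) (hp : p.Prime) (hpα : ¬ p ∣ addOrderOf α) :
    ∃ (L' : Type u) (_ : Field L') (_ : Algebra K L') (_ : FiniteDimensional K L') (_ : Algebra.IsSeparable K L'),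
      ¬ p ∣ Module.finrank K L' ∧
        ∀ [PreservesFiniteLimits (EtCoh.pull (specExt K L'))], EtCore.Hpull (specExt K L') F i α = 0 := by
  haveI := Fact.mk hp
  let Ω := SeparableClosure K
  let M : IntermediateField K Ω := IntermediateField.normalClosure K L Ω
  let φ : L →ₐ[K] Ω := IsSepClosed.lift
  let ψ : L →ₐ[K] M := φ.codRestrict M.toSubalgebra fun x => φ.fieldRange_le_normalClosure ⟨x, rfl⟩
  haveI : FiniteDimensional K M := inferInstanceAs (FiniteDimensional K (IntermediateField.normalClosure K L Ω))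
  haveI : Normal K M := inferInstanceAs (Normal K (IntermediateField.normalClosure K L Ω))
  haveI : IsGalois K M := ⟨⟩
  obtain ⟨P⟩ := (inferInstance : Nonempty (Sylow p (M ≃ₐ[K] M)))
  let E : IntermediateField K M := IntermediateField.fixedField (P : Subgroup (M ≃ₐ[K] M))
  have hEM : Module.finrank E M = Nat.card P := IntermediateField.finrank_fixedField_eq_card _
  have hKE : Module.finrank K E = (P : Subgroup (M ≃ₐ[K] M)).index := by
    have h1 := Module.finrank_mul_finrank K E M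
    rw [hEM, ← IsGalois.card_aut_eq_finrank K M, ← Subgroup.index_mul_card (P : Subgroup (M ≃ₐ[K] M))] at h1
    exact Nat.eq_of_mul_eq_mul_right Nat.card_pos h1
  refine ⟨E, inferInstance, inferInstance, inferInstance, inferInstance, hKE ▸ P.not_dvd_index, ?_⟩
  intro _
  haveI := Groth.L27.EtSite.preservesFiniteLimits_pull (specExt K M)
  haveI := Groth.L27.EtSite.preservesFiniteLimits_pull (specExt E M)
  let g : Spec (CommRingCat.of M) ⟶ Spec (CommRingCat.of L) := Spec.map (CommRingCat.ofHom ψ.toRingHom)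
  haveI := Groth.L27.EtSite.preservesFiniteLimits_pull g
  have hM : EtCore.Hpull (specExt K M) F i α = 0 := by
    refine (Hpull_comp_eq_zero_iff g (specExt K L) (k := specExt K M) ?_ F i α).1 (by rw [hα, map_zero])
    rw [← Spec.map_comp, ← CommRingCat.ofHom_comp]
    exact congrArg (fun r => Spec.map (CommRingCat.ofHom r)) ψ.comp_algebraMap
  have hβ : EtCore.Hpull (specExt E M) _ i (EtCore.Hpull (specExt K E) F i α) = 0 :=
    (Hpull_comp_eq_zero_iff (specExt E M) (specExt K E) (k := specExt K M) (by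
      rw [← Spec.map_comp, ← CommRingCat.ofHom_comp, ← IsScalarTower.algebraMap_eq]) F i α).2 hM
  have h1 : Module.finrank E M • EtCore.Hpull (specExt K E) F i α = 0 := finrank_nsmul_eq_zero E M _ i _ hβ
  obtain ⟨a, ha⟩ := P.2.exists_card_eq
  rw [hEM, ha] at h1
  refine eq_zero_of_coprime (Nat.Coprime.pow_left a ((Nat.Prime.coprime_iff_not_dvd hp).2 hpα)) _ h1 ?_
  rw [← map_nsmul, addOrderOf_nsmul_eq_zero, map_zero]

section Torsion

variable {X : Scheme.{u}} (p n : ℕ)
  (hcd : ∀ (F : EtCoh.Ab X), EtCoh.IsTorsion F → ∀ q : ℕ, n < q →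
    ∀ x : EtCoh.H X F q, (∃ m : ℕ, p ^ m • x = 0) → x = 0)

theorem isTorsion_of_nsmul {F : EtCoh.Ab X} {N : ℕ} (hN : 0 < N) (h : N • 𝟙 F = 0) : EtCoh.IsTorsion F :=
  fun U s x => ⟨U, 𝟙 U, ⟨x, rfl⟩, isOfFinAddOrder_iff_nsmul_eq_zero.2 ⟨N, hN, by
    let e : (F ⟶ F) →+ F.obj.obj (op U) :=
      AddMonoidHom.mk' (fun f => f.hom.app (op U) s) fun a b => rfl
    have h' := congrArg e h
    rw [map_nsmul, map_zero] at h'
    rw [op_id, CategoryTheory.Functor.map_id_apply]
    exact h'⟩⟩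

include hcd

theorem eq_zero_of_cd (hp : 0 < p) (F : EtCoh.Ab X) (q : ℕ) (hq : n + 1 < q) (x : EtCoh.H X F q)
    (hx : ∃ m : ℕ, p ^ m • x = 0) : x = 0 := by
  obtain ⟨k, hξ⟩ := hx
  let f : F ⟶ F := (p ^ k) • 𝟙 F
  let a : F ⟶ Abelian.image f := Abelian.factorThruImage f
  let r : Abelian.image f ⟶ F := Abelian.image.ι f
  have har : a ≫ r = f := Abelian.image.fac f
  let S₁ : ShortComplex (EtCoh.Ab X) := ShortComplex.mk (kernel.ι a) a (kernel.condition _)
  have hS₁ : S₁.ShortExact :=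
    { exact := ShortComplex.exact_of_f_is_kernel _ (kernelIsKernel _)
      mono_f := inferInstanceAs (Mono (kernel.ι a))
      epi_g := inferInstanceAs (Epi a) }
  let S₂ : ShortComplex (EtCoh.Ab X) := ShortComplex.mk r (cokernel.π r) (cokernel.condition _)
  have hS₂ : S₂.ShortExact :=
    { exact := ShortComplex.exact_of_g_is_cokernel _ (cokernelIsCokernel _)
      mono_f := inferInstanceAs (Mono r)
      epi_g := inferInstanceAs (Epi (cokernel.π r)) }
  have hK : (p ^ k) • 𝟙 (kernel a) = 0 := by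
    rw [← cancel_mono (kernel.ι a), Preadditive.nsmul_comp, Category.id_comp, zero_comp]
    have h1 : kernel.ι a ≫ f = (p ^ k) • kernel.ι a := by
      simp only [f, Preadditive.comp_nsmul, Category.comp_id]
    exact h1.symm.trans ((congrArg (kernel.ι a ≫ ·) har.symm).trans (by rw [← Category.assoc, kernel.condition, zero_comp]))
  have hQ : (p ^ k) • 𝟙 (cokernel r) = 0 := by
    rw [← cancel_epi (cokernel.π r), Preadditive.comp_nsmul, Category.comp_id, comp_zero]
    have h1 : f ≫ cokernel.π r = (p ^ k) • cokernel.π r := by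
      simp only [f, Preadditive.nsmul_comp, Category.id_comp]
    exact h1.symm.trans ((congrArg (· ≫ cokernel.π r) har.symm).trans (by rw [Category.assoc, cokernel.condition, comp_zero]))
  have hzero : ∀ (G : EtCoh.Ab X), (p ^ k) • 𝟙 G = 0 → ∀ j, n < j → ∀ z : EtCoh.H X G j, z = 0 :=
    fun G hG j hj z => hcd G (isTorsion_of_nsmul (pow_pos hp k) hG) j hj z ⟨k, by
      rw [← comp_mk₀_nsmul, hG, Ext.mk₀_zero, Ext.comp_zero]⟩
  obtain ⟨j, rfl⟩ : ∃ j, q = j + 1 := ⟨q - 1, by omega⟩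
  have h1 : (x.comp (Ext.mk₀ a) (add_zero _)).comp (Ext.mk₀ r) (add_zero _) = 0 := by
    rw [Ext.comp_assoc_of_second_deg_zero, Ext.mk₀_comp_mk₀, har, comp_mk₀_nsmul]
    exact hξ
  have h2 : x.comp (Ext.mk₀ a) (add_zero _) = 0 := by
    obtain ⟨w, hw⟩ := Ext.covariant_sequence_exact₁ _ hS₂ (x.comp (Ext.mk₀ a) (add_zero _)) h1 rfl
    rw [← hw, hzero _ hQ j (by omega) w, Ext.zero_comp]
  obtain ⟨z, hz⟩ := Ext.covariant_sequence_exact₂ _ hS₁ x h2
  rw [← hz, hzero _ hK (j + 1) (by omega) z, Ext.zero_comp]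

end Torsion

/-- boundary map for the sequence of rational numbers modulo integers -/
theorem nonempty_equiv_int (i : ℕ) (hi : 2 ≤ i) :
    Nonempty (EtCoh.H (Spec (CommRingCat.of K)) (EtCoh.const (Spec (CommRingCat.of K)) ℤ) i ≃+
      EtCoh.H (Spec (CommRingCat.of K))
        (EtCoh.const (Spec (CommRingCat.of K)) (ℚ ⧸ AddSubgroup.zmultiples (1 : ℚ))) (i - 1)) := by
  let Φ := constantSheaf (Spec (CommRingCat.of K)).smallEtaleTopology AddCommGrpCat.{u + 1}
  haveI : PreservesFiniteLimits Φ := by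
    show PreservesFiniteLimits (Functor.const _ ⋙ presheafToSheaf _ _)
    infer_instance
  haveI : PreservesFiniteColimits Φ := by
    haveI : PreservesColimitsOfSize.{0, 0} Φ :=
      (EtCore.constAdj (Spec (CommRingCat.of K))).leftAdjoint_preservesColimits
    exact PreservesColimitsOfSize.preservesFiniteColimits _
  haveI : Φ.Additive := Functor.additive_of_preserves_binary_products Φ
  let a : AddCommGrpCat.of (ULift.{u + 1} ℤ) ⟶ AddCommGrpCat.of (ULift.{u + 1} ℚ) :=
    AddCommGrpCat.ofHom ((AddEquiv.ulift.symm.toAddMonoidHom.comp (Int.castAddHom ℚ)).comp AddEquiv.ulift.toAddMonoidHom)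
  let b : AddCommGrpCat.of (ULift.{u + 1} ℚ) ⟶ AddCommGrpCat.of (ULift.{u + 1} (ℚ ⧸ AddSubgroup.zmultiples (1 : ℚ))) :=
    AddCommGrpCat.ofHom ((AddEquiv.ulift.symm.toAddMonoidHom.comp
      (QuotientAddGroup.mk' (AddSubgroup.zmultiples (1 : ℚ)))).comp AddEquiv.ulift.toAddMonoidHom)
  have hab : a ≫ b = 0 := by
    ext ⟨m⟩
    refine (QuotientAddGroup.eq_zero_iff _).2 ?_
    exact AddSubgroup.mem_zmultiples_iff.2 ⟨m, (zsmul_one m).trans rfl⟩
  let S : ShortComplex AddCommGrpCat.{u + 1} := ShortComplex.mk a b hab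
  have hS : S.ShortExact :=
    { exact := (ShortComplex.ab_exact_iff _).2 fun x hx => by
        obtain ⟨m, hm⟩ := AddSubgroup.mem_zmultiples_iff.1
          ((QuotientAddGroup.eq_zero_iff (ULift.down x)).1 (congrArg ULift.down hx))
        refine ⟨ULift.up m, ULift.ext _ _ ?_⟩
        show (m : ℚ) = ULift.down x
        simpa using hm
      mono_f := (AddCommGrpCat.mono_iff_injective _).2 fun x y h =>
        ULift.ext _ _ (Int.cast_injective (α := ℚ) (congrArg ULift.down h))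
      epi_g := (AddCommGrpCat.epi_iff_surjective _).2 fun x => by
        obtain ⟨q, hq⟩ := QuotientAddGroup.mk'_surjective _ (ULift.down x)
        exact ⟨ULift.up q, ULift.ext _ _ hq⟩ }
  have hdiv : ∀ m : ℕ, 0 < m → IsIso (m • 𝟙 (Φ.obj S.X₂)) := fun m hm => by
    have hm' : (m : ℚ) ≠ 0 := by exact_mod_cast hm.ne'
    haveI : IsIso (m • 𝟙 S.X₂) := by
      rw [ConcreteCategory.isIso_iff_bijective]
      have hev : ∀ x, (m • 𝟙 S.X₂) x = m • x := fun x =>
        map_nsmul (AddMonoidHom.mk' (fun k : AddCommGrpCat.of (ULift.{u + 1} ℚ) ⟶ AddCommGrpCat.of (ULift.{u + 1} ℚ) =>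
          k x) fun _ _ => rfl) m (𝟙 _)
      show Function.Bijective fun x => (m • 𝟙 S.X₂) x
      simp only [hev]
      refine ⟨fun x y h => ULift.ext _ _ ?_, fun x => ⟨ULift.up ((ULift.down x) / m), ULift.ext _ _ ?_⟩⟩
      · have h' : m • ULift.down x = m • ULift.down y := congrArg ULift.down h
        rw [nsmul_eq_mul, nsmul_eq_mul] at h'
        exact mul_left_cancel₀ hm' h'
      · show m • ((ULift.down x) / (m : ℚ)) = ULift.down x
        rw [nsmul_eq_mul, mul_div_cancel₀ _ hm']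
    rw [← Φ.map_id, ← Φ.map_nsmul]
    infer_instance
  have hSΦ := hS.map_of_exact Φ
  obtain ⟨j, rfl⟩ : ∃ j, i = j + 1 := ⟨i - 1, by omega⟩
  haveI : Subsingleton (EtCoh.H (Spec (CommRingCat.of K)) (Φ.obj S.X₂) j) :=
    subsingleton_of_divisible K _ hdiv j (by omega)
  haveI : Subsingleton (EtCoh.H (Spec (CommRingCat.of K)) (Φ.obj S.X₂) (j + 1)) :=
    subsingleton_of_divisible K _ hdiv (j + 1) (by omega)
  refine ⟨(AddEquiv.ofBijective (Groth.L27.LimCoh.δH hSΦ j) ⟨?_, fun x => ?_⟩).symm⟩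
  · rw [injective_iff_map_eq_zero]
    intro y hy
    obtain ⟨z, rfl⟩ := Groth.L27.LimCoh.exists_map_of_δH_eq_zero hSΦ j y hy
    rw [Subsingleton.elim (α := EtCoh.H (Spec (CommRingCat.of K)) (Φ.obj S.X₂) j) z 0]
    exact map_zero ((EtCoh.HF _ j).map (S.map Φ).g).hom
  · exact Groth.L27.LimCoh.exists_δH hSΦ j x
      (Subsingleton.elim (α := EtCoh.H (Spec (CommRingCat.of K)) (Φ.obj S.X₂) (j + 1)) _ _)

end Groth.L28.EtTrace
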