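import Groth.Agent.L28.EtTrace.CyclicGm
import Groth.Agent.L28.EtTrace.BrauerNorm
import Groth.Agent.L28.EtTrace.Galois
import Mathlib.GroupTheory.IndexNormal
import Groth.Agent.L28.Supp.Twist

/-!
Degree two cohomology of the multiplicative group of a field with surjective norms.
-/

set_option autoImplicit false
set_option linter.style.haveILetI false
set_option linter.unusedSectionVars false
set_option backward.isDefEq.respectTransparency.types false

universe u

open CategoryTheory CategoryTheory.Limits AlgebraicGeometry Opposite CategoryTheory.Abelian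

namespace Groth.L28.EtTrace

theorem eq_zero_of_Hpull_algEquiv (E M : Type u) [Field E] [Field M] [Algebra E M] [FiniteDimensional E M]
    [Algebra.IsSeparable E M] (h1 : Module.finrank E M = 1) [PreservesFiniteLimits (EtCoh.pull (specExt E M))]
    (F : EtCoh.Ab (Spec (CommRingCat.of E))) (i : ℕ) (c : EtCoh.H (Spec (CommRingCat.of E)) F i)
    (h : EtCore.Hpull (specExt E M) F i c = 0) : c = 0 := by
  simpa [h1] using finrank_nsmul_eq_zero E M F i c h

/-- pullback of the multiplicative group along an étale map -/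
noncomputable def pullGm {X Y : Scheme.{u}} (f : Y ⟶ X) [AlgebraicGeometry.Etale f] [EtShriek.JCont f] :
    (EtCoh.pull f).obj (EtCoh.Gm X) ≅ EtCoh.Gm Y :=
  (Groth.L27.ExtZero.pullRestr f).app _ ≪≫ Groth.L28.Supp.restrGm f

theorem HF_map_eq_zero_iff {X : Scheme.{u}} {F G : EtCoh.Ab X} (e : F ≅ G) (i : ℕ) (x : EtCoh.H X F i) :
    (EtCoh.HF X i).map e.hom x = 0 ↔ x = 0 :=
  ⟨fun h => (AddCommGrpCat.mono_iff_injective ((EtCoh.HF X i).map e.hom)).1 inferInstance
    (h.trans (map_zero _).symm), fun h => by rw [h]; exact map_zero ((EtCoh.HF X i).map e.hom).hom⟩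

section Prime

variable (K : Type u) [Field K] (p : ℕ) [Fact p.Prime]
  (hN : ∀ (E : Type u) [Field E] [Algebra K E] [FiniteDimensional K E] [Algebra.IsSeparable K E], NormSurj p E)

include hN

set_option maxHeartbeats 1000000 in
theorem eq_zero_of_pow_ext : ∀ (n : ℕ) (E M : Type u) [Field E] [Field M] [Algebra K E] [FiniteDimensional K E]
    [Algebra.IsSeparable K E] [Algebra E M] [FiniteDimensional E M] [IsGalois E M]
    [PreservesFiniteLimits (EtCoh.pull (specExt E M))],
    Module.finrank E M = p ^ n → ∀ c : EtCoh.H (Spec (CommRingCat.of E)) (EtCoh.Gm (Spec (CommRingCat.of E))) 2,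
      EtCore.Hpull (specExt E M) _ 2 c = 0 → c = 0 := by
  intro n
  induction n with
  | zero =>
    intro E M _ _ _ _ _ _ _ _ _ h c hc
    exact eq_zero_of_Hpull_algEquiv E M (by rw [h, pow_zero]) _ _ c hc
  | succ n ih =>
    intro E M _ _ _ _ _ _ _ _ _ h c hc
    have hp : p.Prime := Fact.out
    have hcard : Nat.card (M ≃ₐ[E] M) = p ^ (n + 1) := by rw [IsGalois.card_aut_eq_finrank, h]
    obtain ⟨N, hN'⟩ := Sylow.exists_subgroup_card_pow_prime (G := M ≃ₐ[E] M) p (n := n)
      (by rw [hcard]; exact pow_dvd_pow p n.le_succ)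
    have hidx : N.index = p := by
      have h1 := N.index_mul_card
      rw [hN', hcard, pow_succ'] at h1
      exact Nat.eq_of_mul_eq_mul_right (pow_pos hp.pos n) h1
    haveI : N.Normal := Subgroup.normal_of_index_eq_minFac_card (by
      rw [hidx, hcard, Nat.pow_minFac n.succ_ne_zero, hp.minFac_eq])
    let L : IntermediateField E M := IntermediateField.fixedField N
    haveI : IsGalois E L := IsGalois.of_fixedField_normal_subgroup N
    have hLM : Module.finrank L M = p ^ n := (IntermediateField.finrank_fixedField_eq_card N).trans hN'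
    have hEL : Module.finrank E L = p := by
      have h1 := Module.finrank_mul_finrank E L M
      rw [hLM, h, pow_succ'] at h1
      exact Nat.eq_of_mul_eq_mul_right (pow_pos hp.pos n) h1
    haveI : IsCyclic (L ≃ₐ[E] L) := isCyclic_of_prime_card (p := p) (by rw [IsGalois.card_aut_eq_finrank, hEL])
    letI : Algebra K L := ((algebraMap E L).comp (algebraMap K E)).toAlgebra
    haveI : IsScalarTower K E L := IsScalarTower.of_algebraMap_eq' rfl
    haveI : FiniteDimensional K L := Module.Finite.trans E L
    haveI : Algebra.IsSeparable K L := Algebra.IsSeparable.trans K E L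
    haveI := Groth.L27.EtSite.preservesFiniteLimits_pull (specExt E L)
    haveI := Groth.L27.EtSite.preservesFiniteLimits_pull (specExt L M)
    have w : specExt L M ≫ specExt E L = specExt E M := by
      rw [← Spec.map_comp, ← CommRingCat.ofHom_comp, ← IsScalarTower.algebraMap_eq]
    refine eq_zero_of_cyclic (hN E L hEL) c ?_
    have h' := (Hpull_comp_eq_zero_iff (specExt L M) (specExt E L) w (EtCoh.Gm _) 2 c).2 hc
    haveI := etale_specExt E L
    haveI := Groth.L27.ExtZero.jCont (specExt E L)
    refine (HF_map_eq_zero_iff (pullGm (specExt E L)) 2 _).1 (ih L M hLM _ ?_)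
    rw [Groth.L27.LimCoh.Hpull_map]
    exact (congrArg _ h').trans (map_zero _)

set_option maxHeartbeats 2000000 in
set_option synthInstance.maxHeartbeats 100000 in
/-- no `p`-primary classes in degree two -/
theorem eq_zero_of_normSurj (c : EtCoh.H (Spec (CommRingCat.of K)) (EtCoh.Gm (Spec (CommRingCat.of K))) 2)
    (hc : ∃ m : ℕ, p ^ m • c = 0) : c = 0 := by
  have hp : p.Prime := Fact.out
  obtain ⟨L, _, _, _, _, hL⟩ := exists_killing K 1 _ c
  haveI := Groth.L27.EtSite.preservesFiniteLimits_pull (specExt K L)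
  let Ω := SeparableClosure K
  let M : IntermediateField K Ω := IntermediateField.normalClosure K L Ω
  let φ : L →ₐ[K] Ω := IsSepClosed.lift
  let ψ : L →ₐ[K] M := φ.codRestrict M.toSubalgebra fun x => φ.fieldRange_le_normalClosure ⟨x, rfl⟩
  haveI : FiniteDimensional K M := inferInstanceAs (FiniteDimensional K (IntermediateField.normalClosure K L Ω))
  haveI : Normal K M := inferInstanceAs (Normal K (IntermediateField.normalClosure K L Ω))
  haveI : IsGalois K M := ⟨⟩
  obtain ⟨P⟩ := (inferInstance : Nonempty (Sylow p (M ≃ₐ[K] M)))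
  let E : IntermediateField K M := IntermediateField.fixedField (P : Subgroup (M ≃ₐ[K] M))
  have hEM : Module.finrank E M = Nat.card P := IntermediateField.finrank_fixedField_eq_card _
  have hKE : Module.finrank K E = (P : Subgroup (M ≃ₐ[K] M)).index := by
    have h1 := Module.finrank_mul_finrank K E M
    rw [hEM, ← IsGalois.card_aut_eq_finrank K M, ← Subgroup.index_mul_card (P : Subgroup (M ≃ₐ[K] M))] at h1
    exact Nat.eq_of_mul_eq_mul_right Nat.card_pos h1
  haveI := Groth.L27.EtSite.preservesFiniteLimits_pull (specExt K M)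
  haveI := Groth.L27.EtSite.preservesFiniteLimits_pull (specExt E M)
  haveI := Groth.L27.EtSite.preservesFiniteLimits_pull (specExt K E)
  let g : Spec (CommRingCat.of M) ⟶ Spec (CommRingCat.of L) := Spec.map (CommRingCat.ofHom ψ.toRingHom)
  haveI := Groth.L27.EtSite.preservesFiniteLimits_pull g
  have hM : EtCore.Hpull (specExt K M) _ 2 c = 0 := by
    refine (Hpull_comp_eq_zero_iff g (specExt K L) (k := specExt K M) ?_ _ 2 c).1 ((congrArg _ hL).trans (map_zero _))
    rw [← Spec.map_comp, ← CommRingCat.ofHom_comp]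
    exact congrArg (fun r => Spec.map (CommRingCat.ofHom r)) ψ.comp_algebraMap
  have hβ := (Hpull_comp_eq_zero_iff (specExt E M) (specExt K E) (k := specExt K M) (by
      rw [← Spec.map_comp, ← CommRingCat.ofHom_comp, ← IsScalarTower.algebraMap_eq]) _ 2 c).2 hM
  haveI := etale_specExt K E
  haveI := Groth.L27.ExtZero.jCont (specExt K E)
  obtain ⟨a, ha⟩ := P.2.exists_card_eq
  haveI : IsGalois E M := IsGalois.tower_top_of_isGalois K E M
  have h0 : EtCore.Hpull (specExt K E) _ 2 c = 0 :=
    (HF_map_eq_zero_iff (pullGm (specExt K E)) 2 _).1 (eq_zero_of_pow_ext K p hN a E M (hEM.trans ha) _ (by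
      rw [Groth.L27.LimCoh.Hpull_map]
      exact (congrArg _ hβ).trans (map_zero _)))
  obtain ⟨m, hm⟩ := hc
  exact eq_zero_of_coprime (Nat.Coprime.pow_left m ((Nat.Prime.coprime_iff_not_dvd hp).2 (hKE ▸ P.not_dvd_index)))
    c hm (finrank_nsmul_eq_zero K E _ 2 c h0)

end Prime

/-- classes of finite order vanish when all primary parts do -/
theorem eq_zero_of_primary {A : Type*} [AddCommGroup A] (x : A) (hx : IsOfFinAddOrder x)
    (h : ∀ q : ℕ, q.Prime → ∀ y : A, (∃ m : ℕ, q ^ m • y = 0) → y = 0) : x = 0 := by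
  by_contra hne
  obtain ⟨q, hq, ⟨n, hn⟩⟩ := Nat.exists_prime_and_dvd (mt AddMonoid.addOrderOf_eq_one_iff.1 hne)
  have hn0 : n ≠ 0 := fun h0 => hx.addOrderOf_pos.ne' (by rw [hn, h0, mul_zero])
  have h1 : n • x = 0 := h q hq _ ⟨1, by rw [pow_one, ← mul_nsmul', ← hn, addOrderOf_nsmul_eq_zero]⟩
  have h2 : q * n ≤ n := hn ▸ Nat.le_of_dvd (Nat.pos_of_ne_zero hn0) (addOrderOf_dvd_of_nsmul_eq_zero h1)
  have h3 : 2 * n ≤ q * n := Nat.mul_le_mul_right n hq.two_le
  omega

variable (K : Type u) [Field K]

/-- the cohomological Brauer group vanishes -/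
theorem subsingleton_gm_two (hBr : ∀ (E : Type u) [Field E] [Algebra K E] [FiniteDimensional K E], BrTrivial E) :
    Subsingleton (EtCoh.H (Spec (CommRingCat.of K)) (EtCoh.Gm (Spec (CommRingCat.of K))) 2) :=
  subsingleton_of_forall_eq 0 fun c => eq_zero_of_primary c (isOfFinAddOrder_class K _ 2 (by omega) c)
    fun q hq y hy => haveI := Fact.mk hq
      eq_zero_of_normSurj K q (fun E _ _ _ _ => normSurj_of_brTrivial E (hBr E) q) y hy

/-- the first cohomology of the multiplicative group of a field vanishes -/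
theorem subsingleton_gm_one :
    Subsingleton (EtCoh.H (Spec (CommRingCat.of K)) (EtCoh.Gm (Spec (CommRingCat.of K))) 1) := by
  haveI : IsLocalRing Γ(Spec (CommRingCat.of K), ⊤) :=
    (Scheme.ΓSpecIso (CommRingCat.of K)).commRingCatIsoToRingEquiv.symm.isLocalRing
  exact subsingleton_of_forall_eq 0 fun c => Groth.L28.GmH1.eq_zero_of_pic c

end Groth.L28.EtTrace
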