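import Groth.Agent.L06.NoetherDense
import Mathlib.AlgebraicGeometry.FunctionField
import Mathlib.RingTheory.AlgebraicIndependent.TranscendenceBasis
import Mathlib.RingTheory.NoetherNormalization

/-!
The function field of a curve has transcendence degree one.
-/

set_option autoImplicit false
set_option linter.style.haveILetI false
set_option linter.unusedSectionVars false
set_option backward.isDefEq.respectTransparency.types false

universe u

open CategoryTheory AlgebraicGeometry TopologicalSpace

namespace Groth.L28.EtTrace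

/-- a domain of finite type of dimension `n` has transcendence degree `n` -/
theorem trdeg_eq_of_ringKrullDim (k A : Type u) [Field k] [CommRing A] [IsDomain A] [Algebra k A]
    [Algebra.FiniteType k A] (n : ℕ) (h : ringKrullDim A = n) : Algebra.trdeg k A = n := by
  obtain ⟨d, g, hinj, hfin⟩ := exists_finite_inj_algHom_of_fg k A
  letI := g.toRingHom.toAlgebra
  haveI : IsScalarTower k (MvPolynomial (Fin d) k) A := IsScalarTower.of_algebraMap_eq fun r => (g.commutes r).symm
  haveI : Algebra.IsIntegral (MvPolynomial (Fin d) k) A := ⟨RingHom.Finite.to_isIntegral (f := g.toRingHom) hfin⟩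
  have hd : (d : WithBot ℕ∞) = n := by
    rw [← h, Groth.L22.AffineDim.ringKrullDim_eq_of_isIntegral (R := MvPolynomial (Fin d) k) hinj,
      MvPolynomial.ringKrullDim_of_isNoetherianRing, ringKrullDim_eq_zero_of_field, zero_add,
      Nat.card_eq_fintype_card, Fintype.card_fin]
  obtain rfl : d = n := by exact_mod_cast hd
  haveI : FaithfulSMul (MvPolynomial (Fin d) k) A := (faithfulSMul_iff_algebraMap_injective _ _).2 hinj
  haveI : Algebra.IsAlgebraic (MvPolynomial (Fin d) k) A := Algebra.IsIntegral.isAlgebraic
  rw [← trdeg_add_eq k (MvPolynomial (Fin d) k) (A := A), trdeg_eq_zero (R := MvPolynomial (Fin d) k) (A := A), add_zero, MvPolynomial.trdeg_of_isDomain]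
  simp

theorem exists_algebra_trdeg (k : Type u) [Field k] (X : Scheme.{u}) (f : X ⟶ Spec (CommRingCat.of k))
    [LocallyOfFiniteType f] [AlgebraicGeometry.IsIntegral X] (n : ℕ) (hdim : topologicalKrullDim X = n) :
    ∃ _ : Algebra k X.functionField, Algebra.trdeg k X.functionField = n := by
  obtain ⟨_, ⟨(U : X.Opens), hU, rfl⟩, hxU, -⟩ :=
    X.isBasis_affineOpens.exists_subset_of_mem_open (Set.mem_univ (genericPoint X)) isOpen_univ
  haveI : Nonempty U := ⟨⟨_, hxU⟩⟩
  haveI : Nonempty ↥(U : X.Opens) := ‹_›
  let φ : k →+* Γ(X, U) := (f.appLE ⊤ U le_top).hom.comp (Scheme.ΓSpecIso (CommRingCat.of k)).inv.hom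
  letI := φ.toAlgebra
  haveI : Algebra.FiniteType k Γ(X, U) := by
    rw [← RingHom.finiteType_algebraMap]
    exact RingHom.finiteType_respectsIso.2 _ (Scheme.ΓSpecIso (CommRingCat.of k)).symm.commRingCatIsoToRingEquiv
      (HasRingHomProperty.appLE @LocallyOfFiniteType f ‹_› ⟨⊤, isAffineOpen_top _⟩ ⟨U, hU⟩ le_top)
  have hd : ringKrullDim Γ(X, U) = n := by
    rw [← hdim, Groth.L06.NoetherDense.dim_dense f U (U.isOpen.dense ⟨_, hxU⟩),
      ← PrimeSpectrum.topologicalKrullDim_eq_ringKrullDim]
    exact (hU.isoSpec.hom.homeomorph.isHomeomorph.topologicalKrullDim_eq).symm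
  letI : Algebra k X.functionField := ((X.germToFunctionField U).hom.comp φ).toAlgebra
  haveI : IsScalarTower k Γ(X, U) X.functionField := IsScalarTower.of_algebraMap_eq fun _ => rfl
  haveI := functionField_isFractionRing_of_isAffineOpen X U hU
  haveI : Algebra.IsAlgebraic Γ(X, U) X.functionField := IsLocalization.isAlgebraic _ (nonZeroDivisors Γ(X, U))
  haveI : FaithfulSMul Γ(X, U) X.functionField :=
    (faithfulSMul_iff_algebraMap_injective _ _).2 (IsFractionRing.injective _ _)
  exact ⟨inferInstance, by
    rw [← trdeg_add_eq k Γ(X, U) (A := X.functionField), trdeg_eq_zero (R := Γ(X, U)) (A := X.functionField), add_zero,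
      trdeg_eq_of_ringKrullDim k Γ(X, U) n hd]⟩

end Groth.L28.EtTrace
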