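import Groth.Agent.L28.EtTrace.GmTrdeg
import Groth.Agent.L28.EtTrace.CurveTrdeg
import Mathlib.AlgebraicGeometry.Morphisms.Affine

/-!
Direct image of the multiplicative group from the generic point of a curve.
-/

set_option autoImplicit false
set_option linter.style.haveILetI false
set_option linter.unusedSectionVars false
set_option backward.isDefEq.respectTransparency.types false

universe u

open CategoryTheory CategoryTheory.Limits AlgebraicGeometry Opposite

namespace Groth.L28.EtTrace

variable (k : Type u) [Field k] [IsAlgClosed k] (X : Scheme.{u}) (f : X ⟶ Spec (CommRingCat.of k))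
    [IsSeparated f] [LocallyOfFiniteType f] [AlgebraicGeometry.IsIntegral X] (hdim : topologicalKrullDim X = 1)

include f hdim in
theorem subsingleton_gm_generic (W : Scheme.{u}) [IsAffine W] (w : W ⟶ Spec X.functionField)
    [AlgebraicGeometry.Etale w] (q : ℕ) : Subsingleton (EtCoh.H W (EtCoh.Gm W) (q + 1)) := by
  obtain ⟨_, htr⟩ := exists_algebra_trdeg k X f 1 (by exact_mod_cast hdim)
  exact subsingleton_gm_etale_trdeg k X.functionField (by exact_mod_cast htr) W w q

include f hdim in
theorem isZero_Rpush_generic (q : ℕ) :
    IsZero ((EtCoh.Rpush (X.fromSpecStalk (genericPoint X)) (q + 1)).obj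
      (EtCoh.Gm (Spec (X.presheaf.stalk (genericPoint X))))) := by
  let j := X.fromSpecStalk (genericPoint X)
  refine Groth.L28.Flasque.isZero_Rpush_of_affine j q _ fun V hV r hr => ?_
  obtain ⟨r, rfl⟩ : ∃ i, r = i + 1 := ⟨r - 1, by omega⟩
  let W := (EtCoh.bc j).obj V
  let w : W.left ⟶ Spec X.functionField := W.hom
  haveI : AlgebraicGeometry.Etale w := W.prop
  haveI : IsAffineHom j := by
    haveI : IsAffineHom (j ≫ f) := inferInstance
    exact IsAffineHom.of_comp j f
  let v : V.left ⟶ X := V.hom
  haveI := hV
  have hfst : IsAffineHom (pullback.fst v j) := MorphismProperty.pullback_fst (P := @IsAffineHom) v j ‹IsAffineHom j›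
  haveI : IsAffine W.left := @isAffine_of_isAffineHom _ _ (pullback.fst v j) hfst hV
  haveI := Groth.L27.ExtZero.jCont w
  exact subsingleton_H_of_iso (pullGm w) (r + 1) (subsingleton_gm_generic k X f hdim W.left w r)

end Groth.L28.EtTrace
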