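import Groth.Agent.L28.EtTrace.BrauerNorm
import Groth.Agent.L05.Hensel.IntegralDomain
import Groth.Prelude.Def_EtBase
import Mathlib.RingTheory.DedekindDomain.IntegralClosure
import Mathlib.RingTheory.DiscreteValuationRing.TFAE
import Mathlib.RingTheory.Localization.NormTrace
import Mathlib.RingTheory.LocalRing.Quotient
import Mathlib.FieldTheory.PurelyInseparable.Basic

/-!
Norms over fraction fields of strictly henselian discrete valuation rings.
-/

set_option autoImplicit false
set_option linter.style.haveILetI false
set_option linter.unusedSectionVars false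

universe u

open IsLocalRing Polynomial

namespace Groth.L28.EtTrace

/-- units of a strictly henselian ring are powers -/
theorem exists_pow_eq {B : Type u} [CommRing B] [HenselianLocalRing B] [IsSepClosed (ResidueField B)]
    {p : ℕ} (hp0 : p ≠ 0) (hp : IsUnit (p : B)) (c : Bˣ) : ∃ b : Bˣ, b ^ p = c := by
  have hpk : (p : ResidueField B) ≠ 0 := by
    rw [← map_natCast (residue B)]
    exact (hp.map _).ne_zero
  haveI : NeZero (p : ResidueField B) := ⟨hpk⟩
  obtain ⟨z, hz⟩ := IsSepClosed.exists_pow_nat_eq (residue B c) p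
  obtain ⟨z₀, rfl⟩ := residue_surjective z
  have hz0 : IsUnit z₀ := by
    by_contra h
    rw [(residue_eq_zero_iff z₀).2 h, zero_pow hp0] at hz
    exact (c.isUnit.map (residue B)).ne_zero hz.symm
  obtain ⟨a, ha, haz⟩ := HenselianLocalRing.is_henselian (X ^ p - C (c : B)) (monic_X_pow_sub_C _ hp0) z₀
    (by
      rw [← residue_eq_zero_iff, eval_sub, eval_pow, eval_X, eval_C, map_sub, map_pow, hz, sub_self])
    (by
      rw [derivative_sub, derivative_X_pow, derivative_C, sub_zero, eval_mul, eval_C, eval_pow, eval_X]
      exact hp.mul (hz0.pow _))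
  have hau : IsUnit a := by
    have h := residue_eq_zero_iff (a - z₀) |>.2 haz
    rw [map_sub, sub_eq_zero] at h
    by_contra hn
    rw [(residue_eq_zero_iff a).2 hn] at h
    exact ((residue_ne_zero_iff_isUnit z₀).2 hz0) h.symm
  refine ⟨hau.unit, Units.ext ?_⟩
  rw [Units.val_pow_eq_pow_val, IsUnit.unit_spec]
  simpa [sub_eq_zero] using ha

/-- the integral closure of a henselian discrete valuation ring -/
theorem exists_integralClosure (R K : Type u) [CommRing R] [IsDomain R] [IsDiscreteValuationRing R]
    [HenselianLocalRing R] [IsSepClosed (ResidueField R)] [Field K] [Algebra R K] [IsFractionRing R K]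
    (E : Type u) [Field E] [Algebra K E] [FiniteDimensional K E] [Algebra.IsSeparable K E] :
    ∃ (B : Type u) (_ : CommRing B) (_ : IsDomain B) (_ : IsDiscreteValuationRing B) (_ : HenselianLocalRing B)
      (_ : IsSepClosed (ResidueField B)) (_ : Algebra R B) (_ : Algebra B E), IsFractionRing B E := by
  letI : Algebra R E := ((algebraMap K E).comp (algebraMap R K)).toAlgebra
  haveI : IsScalarTower R K E := IsScalarTower.of_algebraMap_eq' rfl
  let B := integralClosure R E
  haveI : Module.Finite R B := IsIntegralClosure.finite R K E B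
  haveI : IsFractionRing B E := integralClosure.isFractionRing_of_finite_extension K E
  haveI : IsLocalRing B := Groth.L05.isLocalRing_of_finite_domain (A := R) B
  haveI : IsDedekindDomain B := integralClosure.isDedekindDomain R K E
  haveI : HenselianLocalRing B := Groth.L05.henselianLocalRing_of_finite (A := R) B
  haveI : FaithfulSMul R E := (faithfulSMul_iff_algebraMap_injective R E).2
    ((algebraMap K E).injective.comp (IsFractionRing.injective R K))
  have hnf : ¬ IsField B := fun h => IsDiscreteValuationRing.not_isField R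
    (isField_of_isIntegral_of_isField (R := R) (S := B) (FaithfulSMul.algebraMap_injective R B) h)
  haveI : IsDiscreteValuationRing B :=
    ((IsDiscreteValuationRing.TFAE B hnf).out 0 2 (a := IsDiscreteValuationRing B) (b := IsDedekindDomain B)).2 ‹_›
  haveI : IsLocalHom (algebraMap R B) :=
    (Algebra.IsIntegral.isLocalHom (R := R) (S := B)) 
  haveI : IsSepClosed (ResidueField B) := by
    haveI := Groth.L05.isPurelyInseparable_of_isSepClosed_base (ResidueField R) (ResidueField B)
    exact Algebra.IsAlgebraic.isSepClosed (F := ResidueField R) (E := ResidueField B)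
  exact ⟨B, inferInstance, inferInstance, inferInstance, inferInstance, inferInstance, inferInstance,
    inferInstance, inferInstance⟩

/-- norms onto the fraction field of a strictly henselian discrete valuation ring -/
theorem normSurj_fractionField (B : Type u) [CommRing B] [IsDomain B] [IsDiscreteValuationRing B]
    [HenselianLocalRing B] [IsSepClosed (ResidueField B)] (E : Type u) [Field E] [Algebra B E] [IsFractionRing B E]
    (p : ℕ) [Fact p.Prime] (hp : IsUnit (p : B)) : NormSurj p E := by
  intro L _ _ _ _ hL x hx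
  have hp0 : p ≠ 0 := (Fact.out : p.Prime).ne_zero
  letI : Algebra B L := ((algebraMap E L).comp (algebraMap B E)).toAlgebra
  haveI : IsScalarTower B E L := IsScalarTower.of_algebraMap_eq' rfl
  let C := integralClosure B L
  haveI : Module.Finite B C := IsIntegralClosure.finite B E L C
  haveI : IsFractionRing C L := integralClosure.isFractionRing_of_finite_extension E L
  haveI : IsLocalRing C := Groth.L05.isLocalRing_of_finite_domain (A := B) C
  haveI : IsDedekindDomain C := integralClosure.isDedekindDomain B E L
  haveI : FaithfulSMul B L := (faithfulSMul_iff_algebraMap_injective B L).2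
    ((algebraMap E L).injective.comp (IsFractionRing.injective B E))
  have hnf : ¬ IsField C := fun h => IsDiscreteValuationRing.not_isField B
    (isField_of_isIntegral_of_isField (R := B) (S := C) (FaithfulSMul.algebraMap_injective B C) h)
  haveI : IsDiscreteValuationRing C :=
    ((IsDiscreteValuationRing.TFAE C hnf).out 0 2 (a := IsDiscreteValuationRing C) (b := IsDedekindDomain C)).2 ‹_›
  haveI : Module.Free B C := IsIntegralClosure.module_free B E L C
  have hrank : Module.finrank B C = p := (IsIntegralClosure.rank B E L C).trans hL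
  obtain ⟨π, hπ⟩ := IsDiscreteValuationRing.exists_irreducible B
  obtain ⟨ϖ, hϖ⟩ := IsDiscreteValuationRing.exists_irreducible C
  have hπ0 : algebraMap B C π ≠ 0 := fun h =>
    hπ.ne_zero ((FaithfulSMul.algebraMap_injective B C) (h.trans (map_zero _).symm))
  obtain ⟨e, v, hev⟩ := IsDiscreteValuationRing.eq_unit_mul_pow_irreducible hπ0 hϖ
  have hπu : ¬ IsUnit (algebraMap B C π) := fun h => hπ.not_isUnit
    (IsLocalHom.map_nonunit (f := algebraMap B C) π h)
  have he0 : e ≠ 0 := fun h => hπu (by rw [hev, h, pow_zero, mul_one]; exact v.isUnit)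
  have he1 : e ≠ 1 := by
    intro h1
    haveI : IsLocalHom (algebraMap B C) := Algebra.IsIntegral.isLocalHom (R := B) (S := C)
    have hmax : (maximalIdeal B).map (algebraMap B C) = maximalIdeal C := by
      rw [hπ.maximalIdeal_eq, hϖ.maximalIdeal_eq, Ideal.map_span, Set.image_singleton, Ideal.span_singleton_eq_span_singleton]
      exact ⟨v⁻¹, by rw [hev, h1, pow_one, mul_comm (v : C) ϖ, mul_assoc, Units.mul_inv, mul_one]⟩
    have hdim : Module.finrank (ResidueField B) (ResidueField C) = p := by
      rw [← hrank, ← IsLocalRing.finrank_quotient_map (R := B) (S := C)]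
      exact Algebra.finrank_eq_of_equiv_equiv (RingEquiv.refl (ResidueField B))
        (Ideal.quotEquivOfEq hmax.symm : ResidueField C ≃+* C ⧸ (maximalIdeal B).map (algebraMap B C))
        (Ideal.Quotient.ringHom_ext (RingHom.ext fun a => rfl))
    haveI := Groth.L05.isPurelyInseparable_of_isSepClosed_base (ResidueField B) (ResidueField C)
    obtain ⟨r, hr⟩ := IsPurelyInseparable.finrank_eq_pow (ResidueField B) (ResidueField C) (ringExpChar (ResidueField B))
    rw [hdim] at hr
    have hpk : (p : ResidueField B) ≠ 0 := by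
      rw [← map_natCast (residue B)]
      exact (hp.map _).ne_zero
    have hr0 : r ≠ 0 := fun h => (Fact.out : p.Prime).ne_one (by rw [hr, h, pow_zero])
    rcases (Nat.dvd_prime (Fact.out : p.Prime)).1 (hr ▸ dvd_pow_self (ringExpChar (ResidueField B)) hr0) with h | h
    · exact (Fact.out : p.Prime).ne_one (by rw [hr, h, one_pow])
    · haveI : ExpChar (ResidueField B) p := ringExpChar.of_eq h
      cases ‹ExpChar (ResidueField B) p› with
      | zero => exact (Fact.out : Nat.Prime 1).ne_one rfl
      | prime hq => exact hpk (CharP.cast_eq_zero _ p)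
  -- every unit of the base is a norm
  have hunit : ∀ c : Bˣ, ∃ y : L, Algebra.norm E y = algebraMap B E c := fun c => by
    obtain ⟨b, rfl⟩ := exists_pow_eq hp0 hp c
    exact ⟨algebraMap E L (algebraMap B E b), by
      rw [Algebra.norm_algebraMap, hL, Units.val_pow_eq_pow_val, map_pow]⟩
  haveI : IsLocalization (Algebra.algebraMapSubmonoid C (nonZeroDivisors B)) L :=
    IsIntegralClosure.isLocalization_of_isSeparable B E L C
  have hnorm : ∀ z : C, Algebra.norm E (algebraMap C L z) = algebraMap B E (Algebra.norm B z) := fun z =>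
    Algebra.norm_localization B (nonZeroDivisors B) z
  have hϖN : Algebra.norm B ϖ ≠ 0 := Algebra.norm_ne_zero_iff.2 hϖ.ne_zero
  obtain ⟨d, w, hdw⟩ := IsDiscreteValuationRing.eq_unit_mul_pow_irreducible hϖN hπ
  have key : π ^ p = Algebra.norm B (v : C) * ((w : B) * π ^ d) ^ e := by
    rw [← hdw, ← map_pow, ← map_mul, ← hev, Algebra.norm_algebraMap, hrank]
  have hd : d = 1 := by
    have h1 : ((1 : Bˣ) : B) * π ^ p = (((v.isUnit.map (Algebra.norm B)).unit * w ^ e : Bˣ) : B) * π ^ (d * e) := by
      rw [Units.val_one, one_mul, Units.val_mul, IsUnit.unit_spec, Units.val_pow_eq_pow_val, key, mul_pow, ← pow_mul,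
        mul_assoc]
    have h2 : p = d * e := IsDiscreteValuationRing.unit_mul_pow_congr_pow hπ hπ _ _ _ _ h1
    rcases (Nat.dvd_prime (Fact.out : p.Prime)).1 ⟨d, h2.trans (mul_comm d e)⟩ with h | h
    · exact absurd h he1
    · rw [h] at h2
      exact (mul_left_eq_self₀.1 h2.symm).resolve_right hp0
  rw [hd, pow_one] at hdw
  obtain ⟨yπ, hyπ⟩ : ∃ y : L, Algebra.norm E y = algebraMap B E π := by
    obtain ⟨y, hy⟩ := hunit w⁻¹
    refine ⟨y * algebraMap C L ϖ, ?_⟩
    rw [map_mul, hy, hnorm, hdw, ← map_mul, ← mul_assoc, Units.inv_mul, one_mul]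
  have hB : ∀ b : B, b ≠ 0 → ∃ y : L, Algebra.norm E y = algebraMap B E b := fun b hb => by
    obtain ⟨m, c, rfl⟩ := IsDiscreteValuationRing.eq_unit_mul_pow_irreducible hb hπ
    obtain ⟨y, hy⟩ := hunit c
    exact ⟨y * yπ ^ m, by rw [map_mul, map_pow, hy, hyπ, map_mul, map_pow]⟩
  obtain ⟨a, b, hb, rfl⟩ := IsFractionRing.div_surjective (A := B) x
  have ha : a ≠ 0 := fun h => hx (by rw [h, map_zero, zero_div])
  obtain ⟨ya, hya⟩ := hB a ha
  obtain ⟨yb, hyb⟩ := hB b (nonZeroDivisors.ne_zero hb)
  have hyb0 : yb ≠ 0 := fun h => nonZeroDivisors.ne_zero hb ((IsFractionRing.injective B E)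
    (hyb.symm.trans ((congrArg _ h).trans (Algebra.norm_zero.trans (map_zero _).symm))))
  refine ⟨ya * yb⁻¹, ?_⟩
  rw [map_mul, hya, eq_inv_of_mul_eq_one_right (show Algebra.norm E yb * Algebra.norm E yb⁻¹ = 1 by
    rw [← map_mul, mul_inv_cancel₀ hyb0, map_one]), hyb, div_eq_mul_inv]

end Groth.L28.EtTrace
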