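import Groth.Agent.L28.EtTrace.CyclicGm

/-!
Norms from a cyclic extension are surjective when there are no degree two classes killed by the degree.
-/

set_option autoImplicit false
set_option linter.style.haveILetI false
set_option linter.unusedSectionVars false
set_option backward.isDefEq.respectTransparency.types false

universe u

open CategoryTheory CategoryTheory.Limits AlgebraicGeometry Opposite CategoryTheory.Abelian
open Groth.L28.ProEt.Cech (res res_res fp fpDesc fpVal fpVal_desc fpVal_map fp_hom_ext)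
open Groth.L28.EtCartan (fn app_injective app_exact eq_of_surjective)
open Groth.L28.GmH1 (toU ofU toU_res res_sub res_nat exists_lift_of_pic exists_embedding)
open Groth.L27.LimCoh (secEq secEq_map δH eq_zero_of_injective exists_map_of_δH_eq_zero Hpull_δH)

namespace Groth.L28.EtTrace

variable {E L : Type u} [Field E] [Field L] [Algebra E L] [FiniteDimensional E L] [IsGalois E L]

/-- in the free presheaf an element of trace zero is a twisted difference -/
theorem exists_sub_of_sum_map [Fintype (L ≃ₐ[E] L)] (σ : L ≃ₐ[E] L) (hσ : ∀ τ, τ ∈ Subgroup.zpowers σ)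
    (Z : (Spec (CommRingCat.of E)).Etale) (z : Z.left)
    (x : FreeAbelianGroup (ULift.{u + 1} (Z ⟶ galObj E L)))
    (hx : ∑ g, FreeAbelianGroup.map (fun h : ULift.{u + 1} (Z ⟶ galObj E L) => ULift.up.{u + 1} (h.down ≫ act E L g)) x = 0) :
    ∃ y, FreeAbelianGroup.map (fun h : ULift.{u + 1} (Z ⟶ galObj E L) => ULift.up.{u + 1} (h.down ≫ act E L σ)) y - y = x := by
  classical
  let H := ULift.{u + 1} (Z ⟶ galObj E L)
  let M : (L ≃ₐ[E] L) → (FreeAbelianGroup H →+ FreeAbelianGroup H) := fun g =>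
    FreeAbelianGroup.map fun h : H => ULift.up.{u + 1} (h.down ≫ act E L g)
  let R : AddSubgroup (FreeAbelianGroup H) := (M σ - AddMonoidHom.id _).range
  have hR : ∀ (g : L ≃ₐ[E] L) (y : FreeAbelianGroup H), M g y - y ∈ R := by
    intro g
    obtain ⟨n, rfl⟩ := (Submonoid.mem_powers_iff _ _).1 (mem_powers_iff_mem_zpowers.2 (hσ g))
    intro y
    induction n with
    | zero =>
      rw [pow_zero, show M 1 y = y from map_act_one y, sub_self]
      exact R.zero_mem
    | succ n ih =>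
      rw [pow_succ, show M (σ ^ n * σ) y = M σ (M (σ ^ n) y) from (map_act_act σ (σ ^ n) y).symm,
        ← sub_add_sub_cancel (M σ (M (σ ^ n) y)) (M (σ ^ n) y) y]
      exact R.add_mem ⟨M (σ ^ n) y, rfl⟩ ih
  obtain ⟨Ω, _, _, ζ, hζ⟩ := Groth.L27.FEtGal.exists_geometric z
  by_cases hne : Nonempty (Z ⟶ galObj E L)
  · obtain ⟨h₀⟩ := hne
    let Φ : FreeAbelianGroup H →+ FreeAbelianGroup H :=
      FreeAbelianGroup.lift fun h => if ζ ≫ h.down.left = ζ ≫ h₀.left then FreeAbelianGroup.of h else 0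
    have key : ∑ g, (M g⁻¹).comp (Φ.comp (M g)) = AddMonoidHom.id (FreeAbelianGroup H) := by
      refine FreeAbelianGroup.lift_ext _ _ fun h => ?_
      obtain ⟨g₀, hg₀, hu⟩ := exists_unique_act E L Ω (ζ ≫ h.down.left) (ζ ≫ h₀.left) (by
        rw [Category.assoc, Category.assoc, MorphismProperty.Over.w, MorphismProperty.Over.w])
      rw [AddMonoidHom.finsetSum_apply, Finset.sum_eq_single g₀]
      · show M g₀⁻¹ (Φ (M g₀ (FreeAbelianGroup.of h))) = FreeAbelianGroup.of h
        simp only [M, Φ, FreeAbelianGroup.map_of_apply, FreeAbelianGroup.lift_apply_of]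
        rw [if_pos (show ζ ≫ (h.down ≫ act E L g₀).left = ζ ≫ h₀.left from (Category.assoc _ _ _).symm.trans hg₀),
          FreeAbelianGroup.map_of_apply]
        refine congrArg FreeAbelianGroup.of (ULift.ext _ _ ?_)
        show (h.down ≫ act E L g₀) ≫ act E L g₀⁻¹ = h.down
        rw [Category.assoc, act_mul, mul_inv_cancel, act_one, Category.comp_id]
      · intro g _ hg
        show M g⁻¹ (Φ (M g (FreeAbelianGroup.of h))) = 0
        simp only [M, Φ, FreeAbelianGroup.map_of_apply, FreeAbelianGroup.lift_apply_of]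
        rw [if_neg (show ¬ ζ ≫ (h.down ≫ act E L g).left = ζ ≫ h₀.left from
          fun hc => hg (hu g ((Category.assoc _ _ _).trans hc))), map_zero]
      · exact fun hmem => absurd (Finset.mem_univ _) hmem
    have h1 := DFunLike.congr_fun key x
    rw [AddMonoidHom.finsetSum_apply] at h1
    have h2 : ∑ g, (M g⁻¹ (Φ (M g x)) - Φ (M g x)) ∈ R := R.sum_mem fun g _ => hR g⁻¹ _
    rw [Finset.sum_sub_distrib, ← map_sum, show ∑ g, M g x = 0 from hx, map_zero, sub_zero] at h2
    obtain ⟨y, hy⟩ := h2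
    exact ⟨y, hy.trans h1⟩
  · haveI : IsEmpty (ULift.{u + 1} (Z ⟶ galObj E L)) := ⟨fun h => hne ⟨h.down⟩⟩
    exact ⟨0, Subsingleton.elim _ _⟩

/-- invariant sections of an injective sheaf over a cyclic extension are traces -/
theorem exists_sum_eq_of_fixed [Fintype (L ≃ₐ[E] L)] (I : EtCoh.Ab (Spec (CommRingCat.of E))) [Injective I]
    (σ : L ≃ₐ[E] L) (hσ : ∀ τ, τ ∈ Subgroup.zpowers σ) (b : I.obj.obj (op (galObj E L)))
    (hb : res I.obj (act E L σ) b = b) : ∃ m, ∑ g, res I.obj (act E L g) m = b := by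
  haveI : Injective I.obj :=
    Injective.injective_of_adjoint (sheafificationAdjunction _ AddCommGrpCat.{u + 1}) I
  let P := (fp.{u + 1} _).obj (galObj E L)
  let δ : P ⟶ P := (fp.{u + 1} _).map (act E L σ) - 𝟙 _
  let ν : P ⟶ P := ∑ g, (fp.{u + 1} _).map (act E L g)
  let φ : P ⟶ I.obj := fpDesc.{u + 1} I.obj b
  let e₀ : P.obj (op (galObj E L)) := FreeAbelianGroup.of (ULift.up.{u + 1} (𝟙 (galObj E L)))
  have hδ : δ ≫ φ = 0 := by
    refine fp_hom_ext.{u + 1} ?_
    rw [Preadditive.sub_comp, Category.id_comp]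
    show fpVal.{u + 1} ((fp.{u + 1} _).map (act E L σ) ≫ φ) - fpVal.{u + 1} φ = 0
    rw [fpVal_map.{u + 1}, fpVal_desc.{u + 1}, hb, sub_self]
  have hker : kernel.ι ν ≫ φ = 0 := by
    refine NatTrans.ext (funext fun W => AddCommGrpCat.hom_ext (AddMonoidHom.ext fun k => ?_))
    obtain ⟨Z⟩ := W
    show φ.app (op Z) ((kernel.ι ν).app (op Z) k) = 0
    by_cases hne : Nonempty Z.left
    · obtain ⟨z⟩ := hne
      obtain ⟨y, hy⟩ := exists_sub_of_sum_map σ hσ Z z ((kernel.ι ν).app (op Z) k)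
        ((sum_app_apply _ (fun g => (fp.{u + 1} _).map (act E L g)) _ _).symm.trans
          (congrArg (fun q : kernel ν ⟶ P => q.app (op Z) k) (kernel.condition ν)))
      rw [← hy]
      exact congrArg (fun q : P ⟶ I.obj => q.app (op Z) y) hδ
    · haveI : Subsingleton (I.obj.obj (op Z)) :=
        ⟨fun a c => Groth.L27.EtSite.ext_of_locally I fun z => absurd ⟨z⟩ hne⟩
      exact Subsingleton.elim _ _
  let S : ShortComplex ((Spec (CommRingCat.of E)).Etaleᵒᵖ ⥤ AddCommGrpCat.{u + 1}) :=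
    ShortComplex.mk (kernel.ι ν) ν (kernel.condition ν)
  have hS : S.Exact := ShortComplex.exact_of_f_is_kernel _ (kernelIsKernel ν)
  let ψ : P ⟶ I.obj := hS.descToInjective φ hker
  refine ⟨fpVal.{u + 1} ψ, ?_⟩
  have h : ν ≫ ψ = φ := hS.comp_descToInjective φ hker
  refine Eq.trans ?_ ((congrArg fpVal.{u + 1} h).trans (fpVal_desc.{u + 1} I.obj b))
  rw [Preadditive.sum_comp]
  refine Eq.trans ?_ (sum_app_apply _ _ _ e₀).symm
  exact Finset.sum_congr rfl fun g _ => (fpVal_map.{u + 1} (act E L g) ψ).symm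

theorem exists_galΓ (x : E) (hx : x ≠ 0) :
    ∃ e : (EtCoh.Gm (Spec (CommRingCat.of E))).obj.obj (op (galObj E L)),
      galΓ (toU e : Γ((galObj E L).left, ⊤)) = algebraMap E L x :=
  ⟨ofU ((isUnit_iff_ne_zero.2 fun h => hx ((algebraMap E L).injective (h.trans (map_zero _).symm))).map
    (galΓ (E := E) (L := L)).symm).unit, (galΓ (E := E) (L := L)).apply_symm_apply _⟩

/-- surjectivity of the norm -/
theorem exists_norm_of_gm_two [PreservesFiniteLimits (EtCoh.pull (specExt E L))] [IsCyclic (L ≃ₐ[E] L)]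
    (hH : ∀ c : EtCoh.H (Spec (CommRingCat.of E)) (EtCoh.Gm (Spec (CommRingCat.of E))) 2,
      Module.finrank E L • c = 0 → c = 0) (x : E) (hx : x ≠ 0) : ∃ y : L, Algebra.norm E y = x := by
  classical
  haveI := Fintype.ofFinite (L ≃ₐ[E] L)
  obtain ⟨σ, hσ⟩ := IsCyclic.exists_zpow_surjective (G := L ≃ₐ[E] L) |>.imp fun σ h => fun τ => Subgroup.mem_zpowers_iff.2 (h τ)
  haveI := etale_specExt E L
  haveI := subsingleton_pic_galObj (E := E) (L := L)
  obtain ⟨I, Q, f, g, w, hI, hS⟩ := exists_embedding (X := Spec (CommRingCat.of E))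
  obtain ⟨e, he⟩ := exists_galΓ (L := L) x hx
  have hefix : res (EtCoh.Gm _).obj (act E L σ) e = e := Groth.L28.GmH1.ext_U (galΓ.injective (by
    rw [toU_res, galΓ_act, he, AlgEquiv.commutes]))
  obtain ⟨b, hb⟩ := exists_sum_eq_of_fixed I σ hσ (f.hom.app _ e) ((res_nat f _ e).symm.trans (congrArg _ hefix))
  let a : Q.obj.obj (op (galObj E L)) := g.hom.app _ b
  have hNa : ∑ τ, res Q.obj (act E L τ) a = 0 := by
    rw [← app_sum_res, hb]
    exact congrArg (fun k : EtCoh.Gm _ ⟶ Q => k.hom.app (op (galObj E L)) e) w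
  let T : ShortComplex (EtCoh.Ab (Spec (CommRingCat.of E))) :=
    ShortComplex.mk (Injective.ι Q) (cokernel.π _) (cokernel.condition _)
  have hT : T.ShortExact :=
    { exact := ShortComplex.exact_of_g_is_cokernel _ (cokernelIsCokernel _)
      mono_f := inferInstanceAs (Mono (Injective.ι Q))
      epi_g := inferInstanceAs (Epi (cokernel.π (Injective.ι Q))) }
  haveI : Injective T.X₂ := inferInstanceAs (Injective (Injective.under Q))
  obtain ⟨m, hm⟩ := exists_sub_eq_of_sum_eq_zero T.X₂ σ hσ (T.f.hom.app _ a) (by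
    rw [← app_sum_res, hNa, map_zero])
  let p : galObj E L ⟶ EtCoh.top _ := (EtCore.topIsTerminal _).from _
  haveI : Surjective p.left := ⟨fun x => ⟨(default : Spec (CommRingCat.of L)),
    Subsingleton.elim (α := Spec (CommRingCat.of E)) _ _⟩⟩
  obtain ⟨t, ht⟩ := exists_descend_act T.X₃ p (T.g.hom.app _ m)
    (forall_fixed_of_generator_left (fun τ => res T.X₃.obj (act E L τ)) (res_act_one _) (res_act_res_act _) σ hσ _ (by
      rw [← res_nat, ← sub_eq_zero, ← map_sub, hm]
      exact congrArg (fun k : T.X₁ ⟶ T.X₃ => k.hom.app (op (galObj E L)) a) T.zero))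
  let t₀ : EtCoh.H _ T.X₃ 0 := (secEq T.X₃).symm t
  have hpull : EtCore.Hpull (specExt E L) T.X₁ 1 (δH hT 0 t₀) = 0 :=
    Hpull_δ_eq_zero_of_lift (specExt E L) hT t₀ p
      (Groth.L27.LimCoh.lift (specExt E L) (𝟙 _) (by
        show 𝟙 _ ≫ specExt E L = 𝟙 _ ≫ specExt E L
        rfl)) m (by rw [AddEquiv.apply_symm_apply]; exact ht.symm)
  have hy : δH hS 1 (δH hT 0 t₀) = 0 := hH _ (finrank_nsmul_eq_zero E L _ 2 _
    ((Hpull_δH (specExt E L) hS 1 _).trans ((congrArg (δH _ 1) hpull).trans (map_zero _))))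
  obtain ⟨z, hz⟩ := exists_map_of_δH_eq_zero hS 1 _ hy
  have ht0 : δH hT 0 t₀ = 0 := by
    rw [← hz, eq_zero_of_injective I 0 z]
    exact map_zero _
  obtain ⟨z₀, hz₀⟩ := exists_map_of_δH_eq_zero hT 0 t₀ ht0
  let s₀ := secEq T.X₂ z₀
  have hs₀ : T.g.hom.app _ s₀ = t := by
    rw [show s₀ = secEq T.X₂ z₀ from rfl, ← secEq_map, hz₀]
    exact AddEquiv.apply_symm_apply _ _
  obtain ⟨n, hn⟩ := app_exact hT _ (m - res T.X₂.obj p s₀) (by
    rw [map_sub, res_nat, hs₀]
    exact sub_eq_zero.2 ht.symm)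
  have hna : res Q.obj (act E L σ) n - n = a := app_injective hT _ (by
    rw [map_sub]
    show T.f.hom.app _ (res T.X₁.obj (act E L σ) n) - T.f.hom.app _ n = T.f.hom.app _ a
    rw [res_nat, hn, res_sub, res_res, (EtCore.topIsTerminal _).hom_ext (act E L σ ≫ p) p, sub_sub_sub_cancel_right]
    exact hm)
  obtain ⟨m₀, hm₀⟩ := exists_lift_of_pic hS (U := galObj E L) n
  obtain ⟨l, hl⟩ := app_exact hS _ (b - (res I.obj (act E L σ) m₀ - m₀)) (by
    rw [map_sub, map_sub, res_nat, hm₀, hna]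
    exact sub_self _)
  have hN : ∑ τ, res (EtCoh.Gm _).obj (act E L τ) l = e := app_injective hS _ (by
    show f.hom.app _ _ = f.hom.app _ e
    rw [app_sum_res, hl]
    simp only [res_sub, Finset.sum_sub_distrib]
    rw [sum_res_act_res, sub_self, sub_zero, hb])
  refine ⟨galΓ (toU l : Γ((galObj E L).left, ⊤)), (algebraMap E L).injective ?_⟩
  rw [← he, ← hN, toU_sum, map_prod, Algebra.norm_eq_prod_automorphisms]
  refine Finset.prod_congr (by ext; simp) fun τ _ => ?_
  rw [toU_res, galΓ_act]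

end Groth.L28.EtTrace
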