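import Groth.Agent.L28.EtCartan.Criterion
import Groth.Agent.L27.ExtZero.Restr
import Groth.Agent.L27.ExtZero.Cont
import Groth.Agent.L27.Deg.SymCover
import Groth.Agent.L27.EtSite.Push
import Groth.Agent.L27.EtSite.PropB
import Groth.Agent.L27.EtSite.HofPush

/-!
The trace of a finite étale morphism on abelian étale sheaves.
-/

set_option autoImplicit false
set_option linter.style.haveILetI false
set_option linter.unusedSectionVars false
set_option backward.isDefEq.respectTransparency.types false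

universe u

open CategoryTheory CategoryTheory.Limits AlgebraicGeometry Opposite CategoryTheory.Abelian
open Groth.L27.ExtZero (epsE restrAdj pullRestr unit_pullRestr jCont)
open Groth.L28.EtCartan (exists_descend eq_of_surjective)
open Groth.L28.ProEt.Cech (res res_res)
open EtShriek (compEtale)

namespace Groth.L28.EtTrace

variable {S Y T : Scheme.{u}}

section Sheets

variable (f : Y ⟶ S) [AlgebraicGeometry.Etale f]

/-- a morphism into the composite of a base change -/
noncomputable def pair {U Z : S.Etale} (h : Z ⟶ U) (y : Z.left ⟶ Y) (hy : y ≫ f = Z.hom) :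
    Z ⟶ (compEtale f).obj ((EtCoh.bc f).obj U) :=
  MorphismProperty.Over.homMk (pullback.lift h.left y ((MorphismProperty.Over.w h).trans hy.symm)) (by
    show pullback.lift h.left y _ ≫ pullback.snd U.hom f ≫ f = Z.hom
    rw [← Category.assoc, pullback.lift_snd, hy])

theorem pair_epsE {U Z : S.Etale} (h : Z ⟶ U) (y : Z.left ⟶ Y) (hy : y ≫ f = Z.hom) :
    pair f h y hy ≫ epsE f U = h :=
  MorphismProperty.Over.Hom.ext (pullback.lift_fst _ _ _)

theorem comp_pair {U Z Z' : S.Etale} (g : Z' ⟶ Z) (h : Z ⟶ U) (y : Z.left ⟶ Y) (hy : y ≫ f = Z.hom)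
    (y' : Z'.left ⟶ Y) (hy' : y' ≫ f = Z'.hom) (e : g.left ≫ y = y') :
    g ≫ pair f h y hy = pair f (g ≫ h) y' hy' := by
  refine MorphismProperty.Over.Hom.ext (pullback.hom_ext ?_ ?_)
  · show (g.left ≫ pullback.lift h.left y _) ≫ pullback.fst _ _ = pullback.lift (g.left ≫ h.left) y' _ ≫ pullback.fst _ _
    rw [Category.assoc, pullback.lift_fst, pullback.lift_fst]
  · show (g.left ≫ pullback.lift h.left y _) ≫ pullback.snd _ _ = pullback.lift (g.left ≫ h.left) y' _ ≫ pullback.snd _ _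
    rw [Category.assoc, pullback.lift_snd, pullback.lift_snd, e]

theorem pair_map {U V Z : S.Etale} (m : V ⟶ U) (h : Z ⟶ V) (y : Z.left ⟶ Y) (hy : y ≫ f = Z.hom) :
    pair f h y hy ≫ (compEtale f).map ((EtCoh.bc f).map m) = pair f (h ≫ m) y hy := by
  refine MorphismProperty.Over.Hom.ext (pullback.hom_ext ?_ ?_)
  · show (pullback.lift h.left y _ ≫ ((EtCoh.bc f).map m).left) ≫ pullback.fst U.hom f =
      pullback.lift (h.left ≫ m.left) y _ ≫ pullback.fst _ _
    rw [Category.assoc]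
    refine (congrArg (pullback.lift h.left y _ ≫ ·) (Groth.L27.LimCoh.fstB_nat f m)).trans ?_
    exact (Category.assoc _ _ _).symm.trans ((congrArg (· ≫ m.left) (pullback.lift_fst _ _ _)).trans
      (pullback.lift_fst _ _ _).symm)
  · show (pullback.lift h.left y _ ≫ ((EtCoh.bc f).map m).left) ≫ pullback.snd U.hom f =
      pullback.lift (h.left ≫ m.left) y _ ≫ pullback.snd _ _
    rw [Category.assoc]
    refine (congrArg (pullback.lift h.left y _ ≫ ·) (MorphismProperty.Over.w ((EtCoh.bc f).map m))).trans ?_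
    exact (pullback.lift_snd _ _ _).trans (pullback.lift_snd _ _ _).symm

variable (t : T ⟶ S) {ι : Type u} [Fintype ι] (r : ι → (T ⟶ Y)) (hr : ∀ i, r i ≫ f = t)

/-- the sum of the restrictions along the sections -/
noncomputable def sheets (F : EtCoh.Ab S) {U Z : S.Etale} (h : Z ⟶ U) (a : Z.left ⟶ T) (ha : a ≫ t = Z.hom)
    (s : F.obj.obj (op ((compEtale f).obj ((EtCoh.bc f).obj U)))) : F.obj.obj (op Z) :=
  ∑ i, res F.obj (pair f h (a ≫ r i) (by rw [Category.assoc, hr, ha])) s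

theorem res_sheets (F : EtCoh.Ab S) {U Z Z' : S.Etale} (g : Z' ⟶ Z) (h : Z ⟶ U) (a : Z.left ⟶ T)
    (ha : a ≫ t = Z.hom) (s : F.obj.obj (op ((compEtale f).obj ((EtCoh.bc f).obj U))))
    (a' : Z'.left ⟶ T) (ha' : a' ≫ t = Z'.hom) (e : g.left ≫ a = a') :
    res F.obj g (sheets f t r hr F h a ha s) = sheets f t r hr F (g ≫ h) a' ha' s := by
  refine (map_sum (F.obj.map g.op).hom _ _).trans (Finset.sum_congr rfl fun i _ => ?_)
  refine (res_res F.obj _ _ s).trans ?_
  rw [comp_pair f g h _ _ (a' ≫ r i) (by rw [Category.assoc, hr, ha']) (by rw [← Category.assoc, e])]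

theorem sheets_add (F : EtCoh.Ab S) {U Z : S.Etale} (h : Z ⟶ U) (a : Z.left ⟶ T) (ha : a ≫ t = Z.hom)
    (s s' : F.obj.obj (op ((compEtale f).obj ((EtCoh.bc f).obj U)))) :
    sheets f t r hr F h a ha (s + s') = sheets f t r hr F h a ha s + sheets f t r hr F h a ha s' := by
  unfold sheets
  rw [← Finset.sum_add_distrib]
  exact Finset.sum_congr rfl fun i _ => map_add _ _ _

theorem sheets_nat {F G : EtCoh.Ab S} (φ : F ⟶ G) {U Z : S.Etale} (h : Z ⟶ U) (a : Z.left ⟶ T)
    (ha : a ≫ t = Z.hom) (s : F.obj.obj (op ((compEtale f).obj ((EtCoh.bc f).obj U)))) :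
    φ.hom.app (op Z) (sheets f t r hr F h a ha s) = sheets f t r hr G h a ha (φ.hom.app _ s) :=
  (map_sum (φ.hom.app (op Z)).hom _ _).trans
    (Finset.sum_congr rfl fun i _ => NatTrans.naturality_apply φ.hom _ s)

theorem sheets_map (F : EtCoh.Ab S) {U V Z : S.Etale} (m : V ⟶ U) (h : Z ⟶ V) (a : Z.left ⟶ T)
    (ha : a ≫ t = Z.hom) (s : F.obj.obj (op ((compEtale f).obj ((EtCoh.bc f).obj U)))) :
    sheets f t r hr F h a ha (res F.obj ((compEtale f).map ((EtCoh.bc f).map m)) s) =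
      sheets f t r hr F (h ≫ m) a ha s :=
  Finset.sum_congr rfl fun i _ => (res_res F.obj _ _ s).trans (by rw [pair_map])

variable (hinj : ∀ (Ω : Type u) [Field Ω] [IsAlgClosed Ω] (ξ : Spec (CommRingCat.of Ω) ⟶ T) (i j : ι),
    ξ ≫ r i = ξ ≫ r j → i = j)
  (hsurj : ∀ (Ω : Type u) [Field Ω] [IsAlgClosed Ω] (ξ : Spec (CommRingCat.of Ω) ⟶ T)
    (y : Spec (CommRingCat.of Ω) ⟶ Y), y ≫ f = ξ ≫ t → ∃ i, ξ ≫ r i = y)

include hr hinj hsurj

theorem sheets_indep (F : EtCoh.Ab S) {U Z : S.Etale} (h : Z ⟶ U) (a b : Z.left ⟶ T) (ha : a ≫ t = Z.hom)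
    (hb : b ≫ t = Z.hom) (s : F.obj.obj (op ((compEtale f).obj ((EtCoh.bc f).obj U)))) :
    sheets f t r hr F h a ha s = sheets f t r hr F h b hb s := by
  refine Groth.L27.EtSite.ext_of_locally F fun z => ?_
  obtain ⟨Ω, _, _, ζ, hζ⟩ := Groth.L27.FEtGal.exists_geometric z
  choose π hπ using fun i => hsurj Ω (ζ ≫ b) ((ζ ≫ a) ≫ r i) (by
    rw [Category.assoc, Category.assoc, Category.assoc, hr, hb, ha])
  have hπi : Function.Injective π := fun i j e => hinj Ω (ζ ≫ a) i j ((hπ i).symm.trans ((congrArg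
    (fun k => (ζ ≫ b) ≫ r k) e).trans (hπ j)))
  let σ : ι ≃ ι := Equiv.ofBijective π ((Finite.injective_iff_bijective).1 hπi)
  let Δ : Y ⟶ pullback f f := pullback.diagonal f
  let d : ∀ i, Z.left ⟶ pullback f f := fun i => pullback.lift (a ≫ r i) (b ≫ r (π i))
    (by rw [Category.assoc, Category.assoc, hr, hr, ha, hb])
  let O : Z.left.Opens := ⟨⋂ i, d i ⁻¹' Set.range Δ,
    isOpen_iInter_of_finite fun i => Δ.isOpenEmbedding.isOpen_range.preimage (d i).continuous⟩
  have hz : z ∈ O := by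
    refine Set.mem_iInter.2 fun i => ⟨((ζ ≫ a) ≫ r i) default, ?_⟩
    have e : ((ζ ≫ a) ≫ r i) ≫ Δ = ζ ≫ d i := by
      apply pullback.hom_ext
      · simp only [Δ, d, Category.assoc, pullback.diagonal_fst, pullback.lift_fst, Category.comp_id]
      · simp only [Δ, d, Category.assoc, pullback.diagonal_snd, pullback.lift_snd, Category.comp_id]
        simpa only [Category.assoc] using (hπ i).symm
    rw [← hζ]
    exact congrArg (fun q : Spec (CommRingCat.of Ω) ⟶ pullback f f => q default) e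
  have heq : ∀ i, O.ι ≫ a ≫ r i = O.ι ≫ b ≫ r (π i) := fun i => by
    have hsub : Set.range (O.ι ≫ d i) ⊆ Set.range Δ := by
      rintro _ ⟨o, rfl⟩
      exact Set.mem_iInter.1 o.2 i
    have hl := IsOpenImmersion.lift_fac Δ (O.ι ≫ d i) hsub
    have h1 := congrArg (· ≫ pullback.fst _ _) hl
    have h2 := congrArg (· ≫ pullback.snd _ _) hl
    simp only [Δ, d, Category.assoc, pullback.lift_fst, pullback.lift_snd, pullback.diagonal_fst,
      pullback.diagonal_snd, Category.comp_id] at h1 h2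
    exact h1.symm.trans h2
  haveI : AlgebraicGeometry.Etale Z.hom := Z.prop
  let V : S.Etale := MorphismProperty.Over.mk ⊤ (O.ι ≫ Z.hom) (inferInstanceAs (AlgebraicGeometry.Etale (O.ι ≫ Z.hom)))
  let g : V ⟶ Z := MorphismProperty.Over.homMk O.ι rfl
  refine ⟨V, g, ⟨z, hz⟩, rfl, ?_⟩
  show res F.obj g _ = res F.obj g _
  have hav : (g.left ≫ a) ≫ t = V.hom := by rw [Category.assoc, ha]; exact MorphismProperty.Over.w g
  have hbv : (g.left ≫ b) ≫ t = V.hom := by rw [Category.assoc, hb]; exact MorphismProperty.Over.w g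
  rw [res_sheets f t r hr F g h a ha s _ hav rfl, res_sheets f t r hr F g h b hb s _ hbv rfl]
  unfold sheets
  refine (Finset.sum_congr rfl fun i _ => ?_).trans (Equiv.sum_comp σ fun j => res F.obj
    (pair f (g ≫ h) ((g.left ≫ b) ≫ r j) (by rw [Category.assoc, hr, hbv])) s)
  refine congrArg (fun q => res F.obj q s) (MorphismProperty.Over.Hom.ext (pullback.hom_ext ?_ ?_))
  · exact (pullback.lift_fst _ _ _).trans (pullback.lift_fst _ _ _).symm
  · refine (pullback.lift_snd _ _ _).trans (Eq.trans ?_ (pullback.lift_snd _ _ _).symm)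
    show (O.ι ≫ a) ≫ r i = (O.ι ≫ b) ≫ r (π i)
    rw [Category.assoc, Category.assoc]
    exact heq i

variable [Surjective t] [AlgebraicGeometry.Etale t]

theorem existsUnique_tr (F : EtCoh.Ab S) (U : S.Etale)
    (s : F.obj.obj (op ((compEtale f).obj ((EtCoh.bc f).obj U)))) :
    ∃! x : F.obj.obj (op U), ∀ (Z : S.Etale) (h : Z ⟶ U) (a : Z.left ⟶ T) (ha : a ≫ t = Z.hom),
      res F.obj h x = sheets f t r hr F h a ha s := by
  let W : S.Etale := (compEtale t).obj ((EtCoh.bc t).obj U)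
  let pT : W.left ⟶ T := pullback.snd U.hom t
  have hpT : pT ≫ t = W.hom := rfl
  let ε : W ⟶ U := epsE t U
  haveI : Surjective ε.left := MorphismProperty.pullback_fst (P := @Surjective) U.hom t ‹_›
  have hfac : ∀ (Z : S.Etale) (h : Z ⟶ U) (a : Z.left ⟶ T) (ha : a ≫ t = Z.hom),
      (pair t h a ha) ≫ ε = h ∧ (pair t h a ha).left ≫ pT = a := fun Z h a ha =>
    ⟨pair_epsE t h a ha, pullback.lift_snd _ _ _⟩
  obtain ⟨x, hx⟩ := exists_descend F ε (sheets f t r hr F ε pT hpT s) fun Z g₁ g₂ e => by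
    have h₁ : (g₁.left ≫ pT) ≫ t = Z.hom := by rw [Category.assoc, hpT]; exact MorphismProperty.Over.w g₁
    have h₂ : (g₂.left ≫ pT) ≫ t = Z.hom := by rw [Category.assoc, hpT]; exact MorphismProperty.Over.w g₂
    show res F.obj g₁ _ = res F.obj g₂ _
    rw [res_sheets f t r hr F g₁ ε pT hpT s _ h₁ rfl, res_sheets f t r hr F g₂ ε pT hpT s _ h₂ rfl]
    simp only [e]
    exact sheets_indep f t r hr hinj hsurj F (g₂ ≫ ε) _ _ h₁ h₂ s
  refine ⟨x, fun Z h a ha => ?_, fun x' hx' => eq_of_surjective F ε (a := x') (b := x) ?_⟩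
  · obtain ⟨e1, e2⟩ := hfac Z h a ha
    conv_lhs => rw [← e1, ← res_res]
    rw [show res F.obj ε x = _ from hx, res_sheets f t r hr F (pair t h a ha) ε pT hpT s a ha e2]
    simp only [e1]
  · exact (hx' W ε pT hpT).trans hx.symm

/-- the trace on sections -/
noncomputable def trVal (F : EtCoh.Ab S) (U : S.Etale)
    (s : F.obj.obj (op ((compEtale f).obj ((EtCoh.bc f).obj U)))) : F.obj.obj (op U) :=
  (existsUnique_tr f t r hr hinj hsurj F U s).exists.choose

theorem trVal_spec (F : EtCoh.Ab S) (U : S.Etale) (s : F.obj.obj (op ((compEtale f).obj ((EtCoh.bc f).obj U))))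
    {Z : S.Etale} (h : Z ⟶ U) (a : Z.left ⟶ T) (ha : a ≫ t = Z.hom) :
    res F.obj h (trVal f t r hr hinj hsurj F U s) = sheets f t r hr F h a ha s :=
  (existsUnique_tr f t r hr hinj hsurj F U s).exists.choose_spec Z h a ha

theorem trVal_eq (F : EtCoh.Ab S) (U : S.Etale) (s : F.obj.obj (op ((compEtale f).obj ((EtCoh.bc f).obj U))))
    (x : F.obj.obj (op U)) (hx : ∀ (Z : S.Etale) (h : Z ⟶ U) (a : Z.left ⟶ T) (ha : a ≫ t = Z.hom),
      res F.obj h x = sheets f t r hr F h a ha s) : trVal f t r hr hinj hsurj F U s = x :=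
  (existsUnique_tr f t r hr hinj hsurj F U s).unique (existsUnique_tr f t r hr hinj hsurj F U s).exists.choose_spec hx

/-- the trace after restriction -/
theorem exists_trace_restr [EtShriek.JCont f] : ∃ Tr : EtShriek.restrAlong f ⋙ EtCoh.push f ⟶ 𝟭 (EtCoh.Ab S),
    ∀ F, (restrAdj f).unit.app F ≫ Tr.app F = Fintype.card ι • 𝟙 F := by
  let tr := fun (F : EtCoh.Ab S) (U : S.Etale) => trVal f t r hr hinj hsurj F U
  have hadd : ∀ F U s s', tr F U (s + s') = tr F U s + tr F U s' := fun F U s s' =>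
    trVal_eq f t r hr hinj hsurj F U _ _ fun Z h a ha => by
      rw [sheets_add]
      exact (map_add (F.obj.map h.op).hom _ _).trans (congrArg₂ (· + ·)
        (trVal_spec f t r hr hinj hsurj F U s h a ha) (trVal_spec f t r hr hinj hsurj F U s' h a ha))
  refine ⟨{ app := fun F => ⟨{ app := fun U => AddCommGrpCat.ofHom (AddMonoidHom.mk' (tr F U.unop) (hadd F U.unop))
                               naturality := fun U V m => AddCommGrpCat.ext fun s => ?_ }⟩
            naturality := fun F G φ => ObjectProperty.hom_ext _ (NatTrans.ext (funext fun U =>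
              AddCommGrpCat.ext fun s => ?_)) }, fun F => ?_⟩
  · show tr F V.unop (res F.obj ((compEtale f).map ((EtCoh.bc f).map m.unop)) s) = res F.obj m.unop (tr F U.unop s)
    refine trVal_eq f t r hr hinj hsurj F V.unop _ _ fun Z h a ha => ?_
    rw [sheets_map, res_res]
    exact trVal_spec f t r hr hinj hsurj F U.unop s (h ≫ m.unop) a ha
  · show tr G U.unop (φ.hom.app _ s) = φ.hom.app U (tr F U.unop s)
    refine trVal_eq f t r hr hinj hsurj G U.unop _ _ fun Z h a ha => ?_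
    rw [← sheets_nat]
    exact (NatTrans.naturality_apply φ.hom h.op _).symm.trans
      (congrArg (φ.hom.app (op Z)) (trVal_spec f t r hr hinj hsurj F U.unop s h a ha))
  · refine ObjectProperty.hom_ext _ (NatTrans.ext (funext fun U => AddCommGrpCat.ext fun x => ?_))
    let e : (F ⟶ F) →+ F.obj.obj U := AddMonoidHom.mk' (fun k => k.hom.app U x) fun _ _ => rfl
    show tr F U.unop (res F.obj (epsE f U.unop) x) = e (Fintype.card ι • 𝟙 F)
    rw [map_nsmul]
    show _ = Fintype.card ι • x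
    refine trVal_eq f t r hr hinj hsurj F U.unop _ _ fun Z h a ha => ?_
    unfold sheets
    rw [Finset.sum_congr rfl fun i _ => (res_res F.obj _ _ x).trans (by rw [pair_epsE]), Finset.sum_const,
      Finset.card_univ]
    exact map_nsmul (F.obj.map h.op).hom _ _

end Sheets

/-- the trace of a finite étale morphism of constant rank -/
theorem exists_trace (f : Y ⟶ S) [IsFinite f] [AlgebraicGeometry.Etale f] (n : ℕ) (hn : ∀ s : S, f.finrank s = n) :
    ∃ Tr : EtCoh.pull f ⋙ EtCoh.push f ⟶ 𝟭 (EtCoh.Ab S),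
      ∀ F, (EtCoh.pullPushAdj f).unit.app F ≫ Tr.app F = n • 𝟙 F := by
  let C : FEt.Cat S := MorphismProperty.Over.mk ⊤ f ⟨inferInstance, inferInstance⟩
  obtain ⟨T, hTs, -, ι, hι, e, he⟩ := Groth.L27.Deg.exists_split_factorial C n hn
  haveI := hι
  haveI := Fintype.ofFinite ι
  let t : T.left ⟶ S := T.hom
  haveI : Surjective t := hTs
  haveI : AlgebraicGeometry.Etale t := T.prop.2
  let c : ∀ i : ι, T.left ⟶ pullback f t := fun i => Sigma.ι (fun _ : ι => T.left) i ≫ e.inv
  have hc : ∀ i, c i ≫ pullback.snd f t = 𝟙 T.left := fun i => (Category.assoc _ _ _).trans (he i)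
  let r : ι → (T.left ⟶ Y) := fun i => c i ≫ pullback.fst f t
  have hr : ∀ i, r i ≫ f = t := fun i => by
    rw [Category.assoc, pullback.condition, ← Category.assoc, hc, Category.id_comp]
  have hinj : ∀ (Ω : Type u) [Field Ω] [IsAlgClosed Ω] (ξ : Spec (CommRingCat.of Ω) ⟶ T.left) (i j : ι),
      ξ ≫ r i = ξ ≫ r j → i = j := by
    intro Ω _ _ ξ i j h
    by_contra hne
    have h' : ξ ≫ c i = ξ ≫ c j := pullback.hom_ext
      (((Category.assoc _ _ _).trans h).trans (Category.assoc _ _ _).symm)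
      (((Category.assoc _ _ _).trans (congrArg (ξ ≫ ·) (hc i))).trans
        ((Category.assoc _ _ _).trans (congrArg (ξ ≫ ·) (hc j))).symm)
    have h'' : ξ ≫ Sigma.ι (fun _ : ι => T.left) i = ξ ≫ Sigma.ι (fun _ : ι => T.left) j := by
      have k : ∀ l, (ξ ≫ c l) ≫ e.hom = ξ ≫ Sigma.ι (fun _ : ι => T.left) l := fun l =>
        (Category.assoc _ _ _).trans (congrArg (ξ ≫ ·) ((Category.assoc _ _ _).trans
          ((congrArg (Sigma.ι (fun _ : ι => T.left) l ≫ ·) e.inv_hom_id).trans (Category.comp_id _))))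
      exact (k i).symm.trans ((congrArg (· ≫ e.hom) h').trans (k j))
    haveI := isEmpty_of_commSq_sigmaι_of_ne ⟨h''⟩ hne
    exact IsEmpty.false (default : Spec (CommRingCat.of Ω))
  have hsurj : ∀ (Ω : Type u) [Field Ω] [IsAlgClosed Ω] (ξ : Spec (CommRingCat.of Ω) ⟶ T.left)
      (y : Spec (CommRingCat.of Ω) ⟶ Y), y ≫ f = ξ ≫ t → ∃ i, ξ ≫ r i = y := by
    intro Ω _ _ ξ y hy
    let q : Spec (CommRingCat.of Ω) ⟶ ∐ fun _ : ι => T.left := pullback.lift y ξ hy ≫ e.hom
    obtain ⟨i, p, hp⟩ := (sigmaOpenCover fun _ : ι => T.left).exists_eq (q default)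
    have hsub : Set.range q ⊆ Set.range (Sigma.ι (fun _ : ι => T.left) i) := by
      rintro _ ⟨z, rfl⟩
      obtain rfl : z = default := Subsingleton.elim _ _
      exact ⟨p, hp⟩
    have hl := IsOpenImmersion.lift_fac (Sigma.ι (fun _ : ι => T.left) i) q hsub
    have hl' : IsOpenImmersion.lift (Sigma.ι (fun _ : ι => T.left) i) q hsub ≫ c i = pullback.lift y ξ hy := by
      show _ ≫ Sigma.ι (fun _ : ι => T.left) i ≫ e.inv = _
      rw [← Category.assoc, hl]
      exact (Category.assoc _ _ _).trans ((congrArg (_ ≫ ·) e.hom_inv_id).trans (Category.comp_id _))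
    have hlξ : IsOpenImmersion.lift (Sigma.ι (fun _ : ι => T.left) i) q hsub = ξ := by
      have := congrArg (· ≫ pullback.snd f t) hl'
      exact ((Category.assoc _ _ _).trans ((congrArg (_ ≫ ·) (hc i)).trans (Category.comp_id _))).symm.trans
        (this.trans (pullback.lift_snd _ _ _))
    refine ⟨i, ?_⟩
    have := congrArg (· ≫ pullback.fst f t) hl'
    rw [hlξ] at this
    exact (Category.assoc _ _ _).symm.trans (this.trans (pullback.lift_fst _ _ _))
  haveI := jCont f
  obtain ⟨Tr, hTr⟩ := exists_trace_restr f t r hr hinj hsurj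
  refine ⟨Functor.whiskerRight (pullRestr f).hom (EtCoh.push f) ≫ Tr, fun F => ?_⟩
  rw [NatTrans.comp_app, Functor.whiskerRight_app, ← Category.assoc, unit_pullRestr, hTr]
  by_cases hne : Nonempty T.left
  · obtain ⟨p⟩ := hne
    obtain ⟨Ω, _, _, ξ, -⟩ := Groth.L27.FEtGal.exists_geometric p
    congr 1
    rw [← hn ((ξ ≫ t) default), show f.finrank ((ξ ≫ t) default) =
      Nat.card (FEt.fiberObj (ξ ≫ t) C) from (Groth.L27.Deg.card_fiber (ξ ≫ t) C).symm, ← Nat.card_eq_fintype_card]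
    refine Nat.card_eq_of_bijective (fun i => (⟨ξ ≫ r i, by
      show (ξ ≫ r i) ≫ f = ξ ≫ t
      rw [Category.assoc, hr]⟩ : FEt.fiberObj (ξ ≫ t) C)) ⟨fun i j h => hinj Ω ξ i j (congrArg Subtype.val h),
        fun y => ?_⟩
    obtain ⟨i, hi⟩ := hsurj Ω ξ y.1 y.2
    exact ⟨i, Subtype.ext hi⟩
  · refine ObjectProperty.hom_ext _ (NatTrans.ext (funext fun U => AddCommGrpCat.ext fun x => ?_))
    refine Groth.L27.EtSite.ext_of_locally F fun z => absurd ?_ hne
    obtain ⟨p, -⟩ := t.surjective (U.unop.hom z)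
    exact ⟨p⟩

/-- a class killed by pulling back along a finite étale morphism of rank `n` is killed by `n` -/
theorem nsmul_eq_zero_of_Hpull (f : Y ⟶ S) [IsFinite f] [AlgebraicGeometry.Etale f]
    [PreservesFiniteLimits (EtCoh.pull f)] (n : ℕ) (hn : ∀ s : S, f.finrank s = n) (F : EtCoh.Ab S) (i : ℕ)
    (x : EtCoh.H S F i) (hx : EtCore.Hpull f F i x = 0) : n • x = 0 := by
  obtain ⟨Tr, hTr⟩ := exists_trace f n hn
  let η := (EtCoh.pullPushAdj f).unit.app F
  have h0 : Ext.comp x (Ext.mk₀ η) (add_zero i) = 0 :=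
    (Groth.L27.EtSite.bijective_HofPush f ((EtCoh.pull f).obj F)
      (fun q hq => Groth.L27.EtSite.isZero_Rpush_of_propB f (Groth.L27.EtSite.propB_of_isIntegralHom f) _ q hq) i).1
      (((Groth.L27.EtSite.Hpull_apply f F i x).symm.trans hx).trans (map_zero _).symm)
  have h1 : Ext.comp x (Ext.mk₀ (η ≫ Tr.app F)) (add_zero i) = 0 := by
    rw [← Ext.mk₀_comp_mk₀, ← Ext.comp_assoc_of_second_deg_zero, h0, Ext.zero_comp]
  rw [hTr] at h1
  let e : (F ⟶ F) →+ EtCoh.H S F i :=
    AddMonoidHom.mk' (fun k => x.comp (Ext.mk₀ k) (add_zero i)) fun a b => by rw [Ext.mk₀_add, Ext.comp_add]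
  have h2 : e (n • 𝟙 F) = 0 := h1
  rw [map_nsmul] at h2
  exact (congrArg (n • ·) (Ext.comp_mk₀_id x)).symm.trans h2

end Groth.L28.EtTrace
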