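import Groth.Agent.L28.EtTrace.GaloisAct
import Groth.Agent.L28.GmH1.Lift
import Groth.Agent.L27.EtSite.Pull
import Mathlib.RingTheory.Norm.Transitivity
import Mathlib.RingTheory.PicardGroup

/-!
Degree two classes of the multiplicative group split by a cyclic extension with surjective norm vanish.
-/

set_option autoImplicit false
set_option linter.style.haveILetI false
set_option linter.unusedSectionVars false
set_option backward.isDefEq.respectTransparency.types false

universe u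

open CategoryTheory CategoryTheory.Limits AlgebraicGeometry Opposite CategoryTheory.Abelian
open Groth.L28.ProEt.Cech (res res_res)
open Groth.L28.EtCartan (fn app_injective app_exact eq_of_surjective)
open Groth.L28.GmH1 (toU ofU ext_U toU_res toU_add res_sub res_nat exists_lift_of_pic exists_embedding)
open Groth.L27.LimCoh (secEq secEq_map δH exists_δH eq_zero_of_injective δH_map_g Hpull_δH exists_map_of_δH_eq_zero)

namespace Groth.L28.EtTrace

/-- a section whose boundary dies after an étale base change lifts over the base change -/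
theorem exists_lift_of_Hpull_δ {X Y : Scheme.{u}} (f : Y ⟶ X) [AlgebraicGeometry.Etale f]
    [PreservesFiniteLimits (EtCoh.pull f)] {T : ShortComplex (EtCoh.Ab X)} (hT : T.ShortExact)
    (y : EtCoh.H X T.X₃ 0) (h : EtCore.Hpull f T.X₁ 1 (δH hT 0 y) = 0) :
    ∃ s : T.X₂.obj.obj (op (MorphismProperty.Over.mk ⊤ f (inferInstanceAs (AlgebraicGeometry.Etale f)) : X.Etale)),
      T.g.hom.app _ s = res T.X₃.obj ((EtCore.topIsTerminal X).from _) (secEq T.X₃ y) := by
  haveI := Groth.L27.ExtZero.jCont f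
  rw [Hpull_δH f hT] at h
  obtain ⟨z, hz⟩ := exists_map_of_δH_eq_zero (hT.map_of_exact (EtCoh.pull f)) 0 _ h
  let φ := (Groth.L27.ExtZero.pullRestr f).hom
  let P : X.Etale := MorphismProperty.Over.mk ⊤ f (inferInstanceAs (AlgebraicGeometry.Etale f))
  let m : P ⟶ (EtShriek.compEtale f).obj (EtCoh.top Y) := MorphismProperty.Over.homMk (𝟙 Y) (by
    show 𝟙 Y ≫ 𝟙 Y ≫ f = f
    simp)
  refine ⟨res T.X₂.obj m ((φ.app T.X₂).hom.app (op (EtCoh.top Y)) (secEq _ z)), ?_⟩
  rw [res_nat]
  have hnat : T.g.hom.app (op ((EtShriek.compEtale f).obj (EtCoh.top Y)))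
        ((φ.app T.X₂).hom.app (op (EtCoh.top Y)) (secEq _ z)) =
      (φ.app T.X₃).hom.app (op (EtCoh.top Y)) (((EtCoh.pull f).map T.g).hom.app (op (EtCoh.top Y)) (secEq _ z)) :=
    (congrArg (fun k : (EtCoh.pull f).obj T.X₂ ⟶ (EtShriek.restrAlong f).obj T.X₃ =>
      k.hom.app (op (EtCoh.top Y)) (secEq _ z)) (φ.naturality T.g)).symm
  refine (congrArg (res T.X₃.obj m) hnat).trans ?_
  rw [← secEq_map ((EtCoh.pull f).map T.g) z]
  refine (congrArg (fun a => res T.X₃.obj m ((φ.app T.X₃).hom.app (op (EtCoh.top Y)) (secEq _ a))) hz).trans ?_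
  rw [Groth.L27.EtSite.Hpull_apply, Groth.L27.LimCoh.secEq_HofPush, ← Groth.L27.EtSite.HF_map_apply, secEq_map]
  refine (congrArg (res T.X₃.obj m) ((NatTrans.naturality_apply (φ.app T.X₃).hom (EtCore.bcTopIso f).inv.op _).trans
    (congrArg _ (Groth.L27.ExtZero.pullRestr_unit_app f T.X₃ (EtCoh.top X) (secEq T.X₃ y))))).trans ?_
  refine (congrArg (res T.X₃.obj m) (res_res T.X₃.obj ((EtShriek.compEtale f).map (EtCore.bcTopIso f).inv) _ _)).trans ?_
  rw [res_res]
  exact congrArg (fun k => res T.X₃.obj k (secEq T.X₃ y)) ((EtCore.topIsTerminal X).hom_ext _ _)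

variable {E L : Type u} [Field E] [Field L] [Algebra E L] [FiniteDimensional E L] [IsGalois E L]

instance : IsAffine (galObj E L).left := inferInstanceAs (IsAffine (Spec (CommRingCat.of L)))

/-- global functions of the Galois extension -/
noncomputable def galΓ : Γ((galObj E L).left, ⊤) ≃+* L :=
  (Scheme.ΓSpecIso (CommRingCat.of L)).commRingCatIsoToRingEquiv

theorem galΓ_act (g : L ≃ₐ[E] L) (x : Γ((galObj E L).left, ⊤)) : galΓ (fn (act E L g) x) = g (galΓ x) :=
  ConcreteCategory.congr_hom (Scheme.ΓSpecIso_naturality (CommRingCat.ofHom g.toAlgHom.toRingHom)) x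

theorem subsingleton_pic_galObj : Subsingleton (CommRing.Pic Γ((galObj E L).left, ⊤)) :=
  haveI : IsLocalRing Γ((galObj E L).left, ⊤) := (galΓ (E := E) (L := L)).symm.isLocalRing
  inferInstance

theorem toU_sum {X : Scheme.{u}} {A : X.Etale} {ι : Type*} (t : Finset ι) (a : ι → (EtCoh.Gm X).obj.obj (op A)) :
    (toU (∑ i ∈ t, a i) : Γ(A.left, ⊤)) = ∏ i ∈ t, (toU (a i) : Γ(A.left, ⊤)) := by
  classical
  induction t using Finset.induction with
  | empty => rfl
  | insert i t hi ih => rw [Finset.sum_insert hi, Finset.prod_insert hi, toU_add, ih]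

/-- with surjective norm an invariant unit is a norm -/
theorem exists_norm_eq [Fintype (L ≃ₐ[E] L)] (hN : ∀ x : E, x ≠ 0 → ∃ y : L, Algebra.norm E y = x)
    (e : (EtCoh.Gm _).obj.obj (op (galObj E L))) (he : ∀ g, res (EtCoh.Gm _).obj (act E L g) e = e) :
    ∃ l, ∑ g, res (EtCoh.Gm _).obj (act E L g) l = e := by
  have hfix : ∀ g : L ≃ₐ[E] L, g (galΓ (toU e : Γ((galObj E L).left, ⊤))) = galΓ (toU e : Γ((galObj E L).left, ⊤)) :=
    fun g => by rw [← galΓ_act, ← toU_res, he]
  obtain ⟨r, hr⟩ := IntermediateField.mem_bot.1 ((IsGalois.mem_bot_iff_fixed _).2 hfix)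
  have hr0 : r ≠ 0 := fun h => ((toU e).isUnit.map galΓ).ne_zero (by rw [← hr, h, map_zero])
  obtain ⟨y, hy⟩ := hN r hr0
  have hy0 : y ≠ 0 := fun h => hr0 (by rw [← hy, h, Algebra.norm_zero])
  refine ⟨ofU ((isUnit_iff_ne_zero.2 hy0).map galΓ.symm).unit, ext_U (galΓ.injective ?_)⟩
  rw [toU_sum, map_prod, ← hr, ← hy, Algebra.norm_eq_prod_automorphisms]
  refine Finset.prod_congr (by ext; simp) fun g _ => ?_
  rw [toU_res, galΓ_act]
  exact congrArg g (galΓ.apply_symm_apply y)

theorem res_act_res_act (F : EtCoh.Ab (Spec (CommRingCat.of E))) (g h : L ≃ₐ[E] L)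
    (x : F.obj.obj (op (galObj E L))) : res F.obj (act E L g) (res F.obj (act E L h) x) = res F.obj (act E L (g * h)) x :=
  (res_res _ _ _ _).trans (by rw [act_mul])

theorem res_act_one (F : EtCoh.Ab (Spec (CommRingCat.of E)))
    (x : F.obj.obj (op (galObj E L))) : res F.obj (act E L 1) x = x := by
  rw [act_one]
  exact ConcreteCategory.congr_hom (F.obj.map_id _) x

theorem res_act_sum [Fintype (L ≃ₐ[E] L)] (F : EtCoh.Ab (Spec (CommRingCat.of E))) (h : L ≃ₐ[E] L)
    (x : F.obj.obj (op (galObj E L))) :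
    res F.obj (act E L h) (∑ g, res F.obj (act E L g) x) = ∑ g, res F.obj (act E L g) x := by
  refine (map_sum (F.obj.map (act E L h).op).hom _ _).trans
    (Fintype.sum_equiv (Equiv.mulLeft h) _ _ fun g => res_act_res_act F h g x)

theorem sum_res_act_res [Fintype (L ≃ₐ[E] L)] (F : EtCoh.Ab (Spec (CommRingCat.of E))) (h : L ≃ₐ[E] L)
    (x : F.obj.obj (op (galObj E L))) :
    ∑ g, res F.obj (act E L g) (res F.obj (act E L h) x) = ∑ g, res F.obj (act E L g) x :=
  Fintype.sum_equiv (Equiv.mulRight h) _ _ fun g => res_act_res_act F g h x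

theorem app_sum_res [Fintype (L ≃ₐ[E] L)] {F G : EtCoh.Ab (Spec (CommRingCat.of E))} (f : F ⟶ G)
    (x : F.obj.obj (op (galObj E L))) :
    f.hom.app _ (∑ g, res F.obj (act E L g) x) = ∑ g, res G.obj (act E L g) (f.hom.app _ x) :=
  (map_sum (f.hom.app (op (galObj E L))).hom _ _).trans (Finset.sum_congr rfl fun g _ => res_nat f _ x)

/-- an obstruction with zero norm is a twisted difference -/
theorem exists_sub_eq_quotient [Fintype (L ≃ₐ[E] L)] {I Q : EtCoh.Ab (Spec (CommRingCat.of E))} [Injective I]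
    {f : EtCoh.Gm _ ⟶ I} {g : I ⟶ Q} {w : f ≫ g = 0} (hS : (ShortComplex.mk f g w).ShortExact)
    (hN : ∀ x : E, x ≠ 0 → ∃ y : L, Algebra.norm E y = x) (σ : L ≃ₐ[E] L)
    (hσ : ∀ τ, τ ∈ Subgroup.zpowers σ) (a : Q.obj.obj (op (galObj E L)))
    (ha : ∑ τ, res Q.obj (act E L τ) a = 0) :
    ∃ n, res Q.obj (act E L σ) n - n = a := by
  haveI := subsingleton_pic_galObj (E := E) (L := L)
  obtain ⟨b, hb⟩ := exists_lift_of_pic hS (U := galObj E L) a
  have hNb : g.hom.app _ (∑ τ, res I.obj (act E L τ) b) = 0 := by rw [app_sum_res, hb, ha]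
  obtain ⟨e, he⟩ := app_exact hS _ _ hNb
  have hinv : ∀ τ, res (EtCoh.Gm _).obj (act E L τ) e = e := fun τ => app_injective hS _ (by
    show f.hom.app _ _ = f.hom.app _ e
    rw [res_nat, he]
    exact res_act_sum I τ b)
  obtain ⟨l, hl⟩ := exists_norm_eq hN e hinv
  have hb' : ∑ τ, res I.obj (act E L τ) (b - f.hom.app _ l) = 0 := by
    simp only [res_sub, Finset.sum_sub_distrib]
    rw [← app_sum_res, hl]
    exact sub_eq_zero.2 he.symm
  obtain ⟨m, hm⟩ := exists_sub_eq_of_sum_eq_zero I σ hσ _ hb'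
  refine ⟨g.hom.app _ m, ?_⟩
  rw [← res_nat, ← map_sub, hm, map_sub, hb]
  have h0 : g.hom.app (op (galObj E L)) (f.hom.app (op (galObj E L)) l) = 0 :=
    congrArg (fun k : EtCoh.Gm _ ⟶ Q => k.hom.app (op (galObj E L)) l) w
  rw [h0, sub_zero]

/-- classes split by a cyclic extension with surjective norm vanish -/
theorem eq_zero_of_cyclic [PreservesFiniteLimits (EtCoh.pull (specExt E L))] [IsCyclic (L ≃ₐ[E] L)]
    (hN : ∀ x : E, x ≠ 0 → ∃ y : L, Algebra.norm E y = x)
    (c : EtCoh.H (Spec (CommRingCat.of E)) (EtCoh.Gm (Spec (CommRingCat.of E))) 2)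
    (hc : EtCore.Hpull (specExt E L) _ 2 c = 0) : c = 0 := by
  classical
  obtain ⟨σ, hσ⟩ := IsCyclic.exists_zpow_surjective (G := L ≃ₐ[E] L) |>.imp fun σ h => fun τ => Subgroup.mem_zpowers_iff.2 (h τ)
  haveI := etale_specExt E L
  haveI := Groth.L27.ExtZero.jCont (specExt E L)
  obtain ⟨I, Q, f, g, w, hI, hS⟩ := exists_embedding (X := Spec (CommRingCat.of E))
  obtain ⟨y, rfl⟩ := exists_δH hS 1 c (eq_zero_of_injective I 1 _)
  rw [Hpull_δH (specExt E L) hS] at hc
  obtain ⟨z, hz⟩ := exists_map_of_δH_eq_zero (hS.map_of_exact (EtCoh.pull (specExt E L))) 1 _ hc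
  haveI : Injective ((ShortComplex.mk f g w).map (EtCoh.pull (specExt E L))).X₂ :=
    Groth.L27.ExtZero.injective_pull (specExt E L) I
  have hz' : EtCore.Hpull (specExt E L) Q 1 y = 0 :=
    hz.symm.trans ((congrArg _ (eq_zero_of_injective _ 0 z)).trans (map_zero _))
  let T : ShortComplex (EtCoh.Ab (Spec (CommRingCat.of E))) :=
    ShortComplex.mk (Injective.ι Q) (cokernel.π _) (cokernel.condition _)
  have hT : T.ShortExact :=
    { exact := ShortComplex.exact_of_g_is_cokernel _ (cokernelIsCokernel _)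
      mono_f := inferInstanceAs (Mono (Injective.ι Q))
      epi_g := inferInstanceAs (Epi (cokernel.π (Injective.ι Q))) }
  haveI : Injective T.X₂ := inferInstanceAs (Injective (Injective.under Q))
  obtain ⟨t, rfl⟩ := exists_δH hT 0 y (eq_zero_of_injective T.X₂ 0 _)
  obtain ⟨s, hs⟩ := exists_lift_of_Hpull_δ (specExt E L) hT t hz'
  change T.X₂.obj.obj (op (galObj E L)) at s
  let p : galObj E L ⟶ EtCoh.top _ := (EtCore.topIsTerminal _).from _
  change T.g.hom.app (op (galObj E L)) s = res T.X₃.obj p (secEq T.X₃ t) at hs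
  haveI : Surjective p.left := ⟨fun x => ⟨(default : Spec (CommRingCat.of L)),
    Subsingleton.elim (α := Spec (CommRingCat.of E)) _ _⟩⟩
  have hga : T.g.hom.app _ (res T.X₂.obj (act E L σ) s - s) = 0 := by
    rw [map_sub, res_nat, hs, res_res, (EtCore.topIsTerminal _).hom_ext (act E L σ ≫ p) p, sub_self]
  obtain ⟨a, ha⟩ := app_exact hT _ _ hga
  have hNa : ∑ τ, res Q.obj (act E L τ) a = 0 := app_injective hT _ (by
    show T.f.hom.app _ (∑ τ, res T.X₁.obj (act E L τ) a) = T.f.hom.app _ 0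
    rw [app_sum_res, ha, map_zero]
    simp only [res_sub, Finset.sum_sub_distrib]
    rw [sum_res_act_res, sub_self])
  obtain ⟨n, hn⟩ := exists_sub_eq_quotient hS hN σ hσ a hNa
  have hfix : res T.X₂.obj (act E L σ) (s - T.f.hom.app _ n) = s - T.f.hom.app _ n := by
    rw [res_sub, ← res_nat, sub_eq_sub_iff_sub_eq_sub, ← map_sub, ← ha]
    exact congrArg _ hn.symm
  obtain ⟨s₀, hs₀⟩ := exists_descend_act T.X₂ p _
    (forall_fixed_of_generator_left (fun τ => res T.X₂.obj (act E L τ)) (res_act_one _)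
      (res_act_res_act _) σ hσ _ hfix)
  have hgs₀ : T.g.hom.app _ s₀ = secEq T.X₃ t := eq_of_surjective T.X₃ p (by
    show res T.X₃.obj p _ = res T.X₃.obj p (secEq T.X₃ t)
    rw [← res_nat, show res T.X₂.obj p s₀ = _ from hs₀, map_sub, hs]
    have h0 : T.g.hom.app (op (galObj E L)) (T.f.hom.app (op (galObj E L)) n) = 0 :=
      congrArg (fun k : T.X₁ ⟶ T.X₃ => k.hom.app (op (galObj E L)) n) T.zero
    rw [h0, sub_zero])
  have ht : t = (EtCoh.HF _ 0).map T.g ((secEq T.X₂).symm s₀) :=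
    (secEq T.X₃).injective (by rw [secEq_map, AddEquiv.apply_symm_apply, hgs₀])
  rw [ht, δH_map_g hT 0 _, map_zero]

end Groth.L28.EtTrace
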