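import Groth.Agent.L28.EtCartan.Criterion
import Groth.Agent.L27.EtSite.Common
import Groth.Prelude.Def_EtCore
import Mathlib.AlgebraicGeometry.Morphisms.UniversallyOpen
import Mathlib.CategoryTheory.Limits.Shapes.BinaryProducts

/-!
The sheaf condition for a Galois covering.
-/

set_option autoImplicit false
set_option linter.style.haveILetI false
set_option linter.unusedSectionVars false
set_option backward.isDefEq.respectTransparency.types false

universe u w

open CategoryTheory CategoryTheory.Limits AlgebraicGeometry Opposite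

namespace Groth.L28.EtTrace

variable {X : Scheme.{u}} (Y : X.Etale) {G : Type u} [Group G] (σ : G →* Aut Y)

theorem to_top_ext {Z : X.Etale} (a b : Z ⟶ EtCoh.top X) : a = b := (EtCore.topIsTerminal X).hom_ext _ _

theorem isSheafFor_galois_iff (P : X.Etaleᵒᵖ ⥤ Type w)
    (hP : Function.Bijective (fun s : P.obj (op (Y ⨯ Y)) => fun g : G => P.map (prod.lift (𝟙 Y) (σ g).hom).op s)) :
    Presieve.IsSheafFor P (Presieve.singleton ((EtCore.topIsTerminal X).from Y)) ↔
      (Function.Injective (P.map ((EtCore.topIsTerminal X).from Y).op) ∧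
        Set.range (P.map ((EtCore.topIsTerminal X).from Y).op) = {s | ∀ g : G, P.map (σ g).hom.op s = s}) := by
  let p := (EtCore.topIsTerminal X).from Y
  rw [show Presieve.singleton ((EtCore.topIsTerminal X).from Y) = Presieve.ofArrows (fun _ : PUnit.{1} => Y)
      (fun _ => p) from (Presieve.ofArrows_pUnit _).symm, Presieve.isSheafFor_arrows_iff]
  have hcomp : ∀ s : P.obj (op Y), (∀ g, P.map (σ g).hom.op s = s) →
      ∀ (Z : X.Etale) (g₁ g₂ : Z ⟶ Y), P.map g₁.op s = P.map g₂.op s := by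
    intro s hs Z g₁ g₂
    have e : P.map (prod.fst : Y ⨯ Y ⟶ Y).op s = P.map (prod.snd : Y ⨯ Y ⟶ Y).op s := by
      refine hP.1 (funext fun g => ?_)
      show P.map (prod.lift (𝟙 Y) (σ g).hom).op (P.map _ s) = P.map (prod.lift (𝟙 Y) (σ g).hom).op (P.map _ s)
      rw [← Functor.map_comp_apply, ← Functor.map_comp_apply, ← op_comp, ← op_comp, prod.lift_fst, prod.lift_snd, hs g,
        op_id, Functor.map_id_apply]
    have := congrArg (P.map (prod.lift g₁ g₂).op) e
    rwa [← Functor.map_comp_apply, ← Functor.map_comp_apply, ← op_comp, ← op_comp, prod.lift_fst, prod.lift_snd] at this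
  have hinv : ∀ t : P.obj (op (EtCoh.top X)), ∀ g, P.map (σ g).hom.op (P.map p.op t) = P.map p.op t := fun t g => by
    rw [← Functor.map_comp_apply, ← op_comp, to_top_ext ((σ g).hom ≫ p) p]
  constructor
  · intro h
    refine ⟨fun t t' e => ?_, Set.ext fun s => ⟨?_, fun hs => ?_⟩⟩
    · obtain ⟨r, -, hr⟩ := h (fun _ => P.map p.op t) (fun _ _ Z g g' _ => hcomp _ (hinv t) Z g g')
      exact (hr t fun _ => rfl).trans (hr t' fun _ => e.symm).symm
    · rintro ⟨t, rfl⟩ g
      exact hinv t g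
    · obtain ⟨t, ht, -⟩ := h (fun _ => s) (fun _ _ Z g g' _ => hcomp s hs Z g g')
      exact ⟨t, ht PUnit.unit⟩
  · rintro ⟨hi, hr⟩ x hx
    have hs : x PUnit.unit ∈ {s | ∀ g : G, P.map (σ g).hom.op s = s} := fun g => by
      have := hx PUnit.unit PUnit.unit Y (σ g).hom (𝟙 Y) (to_top_ext _ _)
      rwa [op_id, Functor.map_id_apply] at this
    rw [← hr] at hs
    obtain ⟨t, ht⟩ := hs
    exact ⟨t, fun _ => ht, fun t' ht' => hi ((ht' PUnit.unit).trans ht.symm)⟩

/-- the components of a coproduct cover -/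
theorem exists_component (hgal : Nonempty (IsColimit (Cofan.mk (Y ⨯ Y) (fun g : G => prod.lift (𝟙 Y) (σ g).hom))))
    (z : (Y ⨯ Y).left) : ∃ (g : G) (y : Y.left), (prod.lift (𝟙 Y) (σ g).hom).left y = z := by
  obtain ⟨hc⟩ := hgal
  let l : G → (Y ⟶ Y ⨯ Y) := fun g => prod.lift (𝟙 Y) (σ g).hom
  let P := (Y ⨯ Y)
  haveI : AlgebraicGeometry.Etale P.hom := P.prop
  haveI : AlgebraicGeometry.Etale Y.hom := Y.prop
  have hl : ∀ g, IsOpen (Set.range (l g).left) := fun g => by
    let v : Y.left ⟶ P.left := (l g).left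
    haveI : AlgebraicGeometry.Etale (v ≫ P.hom) := by
      rw [show v ≫ P.hom = Y.hom from MorphismProperty.Over.w (l g)]; exact Y.prop
    haveI : AlgebraicGeometry.Etale v := AlgebraicGeometry.Etale.of_comp v P.hom
    exact v.isOpenMap.isOpen_range
  let O : P.left.Opens := ⟨⋃ g, Set.range (l g).left, isOpen_iUnion hl⟩
  have hOι : IsOpenImmersion O.ι := inferInstance
  let V : X.Etale := MorphismProperty.Over.mk ⊤ (O.ι ≫ P.hom) (inferInstanceAs (AlgebraicGeometry.Etale (O.ι ≫ P.hom)))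
  let j : V ⟶ P := MorphismProperty.Over.homMk O.ι rfl
  have hsub : ∀ g, Set.range (l g).left ⊆ Set.range O.ι := fun g => by
    rw [Scheme.Opens.range_ι]
    exact Set.subset_iUnion (fun g => Set.range (l g).left) g
  let w : ∀ g, Y.left ⟶ O.toScheme := fun g =>
    @IsOpenImmersion.lift _ _ _ O.ι (l g).left hOι (hsub g)
  have hw : ∀ g, w g ≫ O.ι = (l g).left := fun g => @IsOpenImmersion.lift_fac _ _ _ O.ι (l g).left hOι (hsub g)
  let c : ∀ g, Y ⟶ V := fun g => MorphismProperty.Over.homMk (w g) (by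
    show w g ≫ O.ι ≫ P.hom = Y.hom
    rw [← Category.assoc, hw]
    exact MorphismProperty.Over.w (l g))
  have e : Cofan.IsColimit.desc hc c ≫ j = 𝟙 P := Cofan.IsColimit.hom_ext hc _ _ fun g => by
    rw [← Category.assoc, Cofan.IsColimit.fac]
    refine MorphismProperty.Over.Hom.ext ?_
    exact (hw g).trans (congrArg (fun q : Y ⟶ P => q.left) (Category.comp_id (l g)).symm)
  have hz : O.ι ((Cofan.IsColimit.desc hc c).left z) = z := congrArg (fun q : P ⟶ P => q.left z) e
  have hmem : z ∈ (O : Set P.left) := by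
    rw [← hz, ← Scheme.Opens.range_ι]
    exact ⟨_, rfl⟩
  obtain ⟨g, y, hy⟩ := Set.mem_iUnion.1 hmem
  exact ⟨g, y, hy⟩

theorem injective_and_range_eq (hY : Function.Surjective Y.hom.base)
    (hgal : Nonempty (IsColimit (Cofan.mk (Y ⨯ Y) (fun g : G => prod.lift (𝟙 Y) (σ g).hom)))) (F : EtCoh.Ab X) :
    Function.Injective (F.obj.map ((EtCore.topIsTerminal X).from Y).op) ∧
      Set.range (F.obj.map ((EtCore.topIsTerminal X).from Y).op) =
        {s : EtCoh.sect F Y | ∀ g : G, F.obj.map (σ g).hom.op s = s} := by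
  let p := (EtCore.topIsTerminal X).from Y
  haveI : Surjective p.left := ⟨fun x => by
    obtain ⟨y, hy⟩ := hY x
    exact ⟨y, (congrArg (fun q : Y.left ⟶ X => q y) ((Category.comp_id p.left).symm.trans (MorphismProperty.Over.w p))).trans hy⟩⟩
  refine ⟨fun a b h => Groth.L28.EtCartan.eq_of_surjective F p h, Set.ext fun s => ⟨?_, fun hs => ?_⟩⟩
  · rintro ⟨t, rfl⟩ g
    rw [← Functor.map_comp_apply, ← op_comp, to_top_ext ((σ g).hom ≫ p) p]
  refine Groth.L28.EtCartan.exists_descend F p s fun Z g₁ g₂ _ => ?_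
  have e : F.obj.map (prod.fst : Y ⨯ Y ⟶ Y).op s = F.obj.map (prod.snd : Y ⨯ Y ⟶ Y).op s := by
    refine Groth.L27.EtSite.ext_of_locally F fun z => ?_
    obtain ⟨g, y, hy⟩ := exists_component Y σ hgal z
    refine ⟨Y, prod.lift (𝟙 Y) (σ g).hom, y, hy, ?_⟩
    rw [← Functor.map_comp_apply, ← Functor.map_comp_apply, ← op_comp, ← op_comp, prod.lift_fst, prod.lift_snd, hs g,
      op_id, Functor.map_id_apply]
  have := congrArg (F.obj.map (prod.lift g₁ g₂).op) e
  rwa [← Functor.map_comp_apply, ← Functor.map_comp_apply, ← op_comp, ← op_comp, prod.lift_fst, prod.lift_snd] at this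

end Groth.L28.EtTrace
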