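import Groth.Agent.L28.EtTrace.Field
import Groth.Agent.L28.ProEt.Cech.Basic
import Mathlib.FieldTheory.Galois.Basic
import Mathlib.FieldTheory.IsAlgClosed.AlgebraicClosure
import Mathlib.GroupTheory.OrderOfElement

/-!
The Galois action on sections over a finite Galois extension of fields: invariant sections descend,
and for injective sheaves norm zero sections are twisted differences.
-/

set_option autoImplicit false
set_option linter.style.haveILetI false
set_option linter.unusedSectionVars false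
set_option backward.isDefEq.respectTransparency.types false

universe u

open CategoryTheory CategoryTheory.Limits AlgebraicGeometry Opposite
open Groth.L28.EtCartan (exists_descend eq_of_surjective)
open Groth.L28.ProEt.Cech (res res_res fp fpDesc fpVal fpVal_desc fpVal_map fp_hom_ext evalHom)

namespace Groth.L28.EtTrace

variable (E L : Type u) [Field E] [Field L] [Algebra E L] [FiniteDimensional E L] [IsGalois E L]

/-- the spectrum of a Galois extension as an object of the site -/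
noncomputable def galObj : (Spec (CommRingCat.of E)).Etale :=
  MorphismProperty.Over.mk ⊤ (specExt E L) (etale_specExt E L)

/-- the action of an automorphism -/
noncomputable def act (g : L ≃ₐ[E] L) : galObj E L ⟶ galObj E L :=
  MorphismProperty.Over.homMk (Spec.map (CommRingCat.ofHom g.toAlgHom.toRingHom)) (by
    show Spec.map _ ≫ specExt E L = specExt E L
    rw [← Spec.map_comp, ← CommRingCat.ofHom_comp]
    exact congrArg (fun r => Spec.map (CommRingCat.ofHom r)) g.toAlgHom.comp_algebraMap)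

theorem act_left (g : L ≃ₐ[E] L) : (act E L g).left = Spec.map (CommRingCat.ofHom g.toAlgHom.toRingHom) := rfl

theorem act_mul (g h : L ≃ₐ[E] L) : act E L g ≫ act E L h = act E L (g * h) := by
  refine MorphismProperty.Over.Hom.ext ?_
  show Spec.map (CommRingCat.ofHom g.toAlgHom.toRingHom) ≫ Spec.map (CommRingCat.ofHom h.toAlgHom.toRingHom) = _
  rw [← Spec.map_comp, ← CommRingCat.ofHom_comp]
  rfl

theorem act_one : act E L 1 = 𝟙 _ := by
  refine MorphismProperty.Over.Hom.ext ?_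
  show Spec.map (CommRingCat.ofHom (RingHom.id L)) = 𝟙 (Spec (CommRingCat.of L))
  rw [CommRingCat.ofHom_id, Spec.map_id]

/-- geometric points of a Galois extension form a torsor -/
theorem exists_unique_act (Ω : Type u) [Field Ω] [IsAlgClosed Ω]
    (a b : Spec (CommRingCat.of Ω) ⟶ (galObj E L).left)
    (h : a ≫ (galObj E L).hom = b ≫ (galObj E L).hom) :
    ∃! g : L ≃ₐ[E] L, a ≫ (act E L g).left = b := by
  obtain ⟨α, rfl⟩ := Spec.map_surjective (R := CommRingCat.of L) a
  obtain ⟨β, rfl⟩ := Spec.map_surjective (R := CommRingCat.of L) b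
  change Spec.map α ≫ Spec.map _ = Spec.map β ≫ Spec.map _ at h
  rw [← Spec.map_comp, ← Spec.map_comp] at h
  have h' : α.hom.comp (algebraMap E L) = β.hom.comp (algebraMap E L) :=
    congrArg CommRingCat.Hom.hom (Spec.map_injective h)
  letI : Algebra E Ω := (α.hom.comp (algebraMap E L)).toAlgebra
  let α' : L →ₐ[E] Ω := { α.hom with commutes' := fun r => rfl }
  let β' : L →ₐ[E] Ω := { β.hom with commutes' := fun r => (RingHom.congr_fun h' r).symm }
  have hinj : Function.Injective fun g : L ≃ₐ[E] L => α'.comp g.toAlgHom := fun g g' e =>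
    AlgEquiv.ext fun x => α'.toRingHom.injective (AlgHom.congr_fun e x)
  have hcard : Nat.card (L ≃ₐ[E] L) = Nat.card (L →ₐ[E] Ω) := by
    rw [IsGalois.card_aut_eq_finrank, Nat.card_eq_fintype_card, AlgHom.card]
  obtain ⟨g, hg⟩ := ((Nat.bijective_iff_injective_and_card _).2 ⟨hinj, hcard⟩).2 β'
  refine ⟨g, ?_, fun g' hg' => hinj ?_⟩
  · show Spec.map α ≫ Spec.map _ = Spec.map β
    rw [← Spec.map_comp]
    exact congrArg Spec.map (CommRingCat.hom_ext (RingHom.ext fun x => AlgHom.congr_fun hg x))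
  · change Spec.map α ≫ Spec.map _ = Spec.map β at hg'
    rw [← Spec.map_comp] at hg'
    refine Eq.trans ?_ hg.symm
    exact AlgHom.ext fun x => RingHom.congr_fun (congrArg CommRingCat.Hom.hom (Spec.map_injective hg')) x

/-- morphisms into a Galois extension which agree at a geometric point agree nearby -/
theorem exists_nhd {Z : Scheme.{u}} (a b : Z ⟶ (galObj E L).left)
    (h : a ≫ (galObj E L).hom = b ≫ (galObj E L).hom) {Ω : Type u} [Field Ω]
    (ζ : Spec (CommRingCat.of Ω) ⟶ Z) (hζ : ζ ≫ a = ζ ≫ b) :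
    ∃ O : Z.Opens, ζ default ∈ O ∧ O.ι ≫ a = O.ι ≫ b := by
  let f : (galObj E L).left ⟶ Spec (CommRingCat.of E) := (galObj E L).hom
  haveI : AlgebraicGeometry.Etale f := (galObj E L).prop
  let Δ : (galObj E L).left ⟶ pullback f f := pullback.diagonal f
  let d : Z ⟶ pullback f f := pullback.lift a b h
  let O : Z.Opens := ⟨d ⁻¹' Set.range Δ, Δ.isOpenEmbedding.isOpen_range.preimage d.continuous⟩
  refine ⟨O, ⟨(ζ ≫ a) default, ?_⟩, ?_⟩
  · have e : (ζ ≫ a) ≫ Δ = ζ ≫ d := by
      apply pullback.hom_ext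
      · simp only [Δ, d, Category.assoc, pullback.diagonal_fst, pullback.lift_fst, Category.comp_id]
      · simp only [Δ, d, Category.assoc, pullback.diagonal_snd, pullback.lift_snd, Category.comp_id]
        exact hζ
    exact congrArg (fun q : Spec (CommRingCat.of Ω) ⟶ pullback f f => q default) e
  · have hsub : Set.range (O.ι ≫ d) ⊆ Set.range Δ := by
      rintro _ ⟨o, rfl⟩
      exact o.2
    have hl := IsOpenImmersion.lift_fac Δ (O.ι ≫ d) hsub
    have h1 := congrArg (· ≫ pullback.fst _ _) hl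
    have h2 := congrArg (· ≫ pullback.snd _ _) hl
    simp only [Δ, d, Category.assoc, pullback.lift_fst, pullback.lift_snd, pullback.diagonal_fst,
      pullback.diagonal_snd, Category.comp_id] at h1 h2
    exact h1.symm.trans h2

variable {E L}

/-- invariant sections descend -/
theorem exists_descend_act (F : EtCoh.Ab (Spec (CommRingCat.of E))) {U : (Spec (CommRingCat.of E)).Etale}
    (p : galObj E L ⟶ U) [Surjective p.left] (s : F.obj.obj (op (galObj E L)))
    (hs : ∀ g, res F.obj (act E L g) s = s) : ∃ t, F.obj.map p.op t = s := by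
  refine exists_descend F p s fun Z g₁ g₂ _ => Groth.L27.EtSite.ext_of_locally F fun z => ?_
  obtain ⟨Ω, _, _, ζ, hζ⟩ := Groth.L27.FEtGal.exists_geometric z
  obtain ⟨g, hg, -⟩ := exists_unique_act E L Ω (ζ ≫ g₁.left) (ζ ≫ g₂.left) (by
    rw [Category.assoc, Category.assoc, MorphismProperty.Over.w, MorphismProperty.Over.w])
  obtain ⟨O, hO, he⟩ := exists_nhd E L (g₁ ≫ act E L g).left g₂.left (by
    rw [MorphismProperty.Over.w, MorphismProperty.Over.w]) ζ (by
    show ζ ≫ g₁.left ≫ (act E L g).left = _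
    rw [← Category.assoc, hg])
  haveI : AlgebraicGeometry.Etale Z.hom := Z.prop
  let V : (Spec (CommRingCat.of E)).Etale :=
    MorphismProperty.Over.mk ⊤ (O.ι ≫ Z.hom) (inferInstanceAs (AlgebraicGeometry.Etale (O.ι ≫ Z.hom)))
  let j : V ⟶ Z := MorphismProperty.Over.homMk O.ι rfl
  refine ⟨V, j, ⟨z, hζ ▸ hO⟩, rfl, ?_⟩
  show res F.obj j (res F.obj g₁ s) = res F.obj j (res F.obj g₂ s)
  have e : j ≫ g₁ ≫ act E L g = j ≫ g₂ := MorphismProperty.Over.Hom.ext he
  conv_lhs => rw [← hs g]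
  rw [res_res, res_res, res_res, ← e, Category.assoc]

theorem forall_fixed_of_generator {A : Type*} (T : (L ≃ₐ[E] L) → A → A) (h1 : ∀ x, T 1 x = x)
    (hmul : ∀ g h x, T g (T h x) = T (h * g) x) (σ : L ≃ₐ[E] L) (hσ : ∀ τ, τ ∈ Subgroup.zpowers σ) (x : A)
    (hx : T σ x = x) (g : L ≃ₐ[E] L) : T g x = x := by
  obtain ⟨n, rfl⟩ := (Submonoid.mem_powers_iff _ _).1 (mem_powers_iff_mem_zpowers.2 (hσ g))
  induction n with
  | zero => rw [pow_zero, h1]
  | succ n ih => rw [pow_succ, ← hmul, ih, hx]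

theorem forall_fixed_of_generator_left {A : Type*} (T : (L ≃ₐ[E] L) → A → A) (h1 : ∀ x, T 1 x = x)
    (hmul : ∀ g h x, T g (T h x) = T (g * h) x) (σ : L ≃ₐ[E] L) (hσ : ∀ τ, τ ∈ Subgroup.zpowers σ) (x : A)
    (hx : T σ x = x) (g : L ≃ₐ[E] L) : T g x = x := by
  obtain ⟨n, rfl⟩ := (Submonoid.mem_powers_iff _ _).1 (mem_powers_iff_mem_zpowers.2 (hσ g))
  induction n with
  | zero => rw [pow_zero, h1]
  | succ n ih => rw [pow_succ, ← hmul, hx, ih]

theorem exists_eq_sum_map {G : Type*} [Fintype G] {H : Type*} (u v : G → H → H)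
    (huv : ∀ g h, u g (v g h) = h) (P : H → Prop) (hP : ∀ h, ∃! g, P (v g h))
    (x : FreeAbelianGroup H) (hx : ∀ g, FreeAbelianGroup.map (v g) x = x) :
    ∃ y, ∑ g, FreeAbelianGroup.map (u g) y = x := by
  classical
  let Φ : FreeAbelianGroup H →+ FreeAbelianGroup H :=
    FreeAbelianGroup.lift fun h => if P h then FreeAbelianGroup.of h else 0
  have key : ∑ g, (FreeAbelianGroup.map (u g)).comp (Φ.comp (FreeAbelianGroup.map (v g))) =
      AddMonoidHom.id (FreeAbelianGroup H) := by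
    refine FreeAbelianGroup.lift_ext _ _ fun h => ?_
    obtain ⟨g₀, hg₀, hu⟩ := hP h
    rw [AddMonoidHom.finsetSum_apply, Finset.sum_eq_single g₀]
    · simp [Φ, hg₀, huv]
    · intro g _ hg
      simp [Φ, show ¬ P (v g h) from fun hc => hg (hu g hc)]
    · exact fun hmem => absurd (Finset.mem_univ _) hmem
  refine ⟨Φ x, ?_⟩
  have h := DFunLike.congr_fun key x
  rw [AddMonoidHom.finsetSum_apply] at h
  refine Eq.trans (Finset.sum_congr rfl fun g _ => ?_) h
  show _ = FreeAbelianGroup.map (u g) (Φ (FreeAbelianGroup.map (v g) x))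
  rw [hx g]

theorem fp_map_app {C : Type*} [Category.{u} C] {A B : C} (f : A ⟶ B) (W : Cᵒᵖ)
    (x : FreeAbelianGroup (ULift.{u + 1} (W.unop ⟶ A))) :
    ((fp.{u + 1} C).map f).app W x = FreeAbelianGroup.map (fun h => ULift.up (h.down ≫ f)) x := rfl

/-- in the free presheaf on a Galois extension a fixed element is a norm -/
theorem exists_eq_sum_act [Fintype (L ≃ₐ[E] L)] (Z : (Spec (CommRingCat.of E)).Etale) (z : Z.left)
    (x : FreeAbelianGroup (ULift.{u + 1} (Z ⟶ galObj E L)))
    (hx : ∀ g, FreeAbelianGroup.map (fun h : ULift.{u + 1} (Z ⟶ galObj E L) => ULift.up.{u + 1} (h.down ≫ act E L g)) x = x) :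
    ∃ y, ∑ g, FreeAbelianGroup.map (fun h : ULift.{u + 1} (Z ⟶ galObj E L) => ULift.up.{u + 1} (h.down ≫ act E L g)) y = x := by
  obtain ⟨Ω, _, _, ζ, hζ⟩ := Groth.L27.FEtGal.exists_geometric z
  by_cases hne : Nonempty (Z ⟶ galObj E L)
  · obtain ⟨h₀⟩ := hne
    refine exists_eq_sum_map (fun g (h : ULift.{u + 1} (Z ⟶ galObj E L)) => ULift.up.{u + 1} (h.down ≫ act E L g)) (fun g h => ULift.up (h.down ≫ act E L g⁻¹)) (fun g h => ?_)
      (fun h => ζ ≫ h.down.left = ζ ≫ h₀.left) (fun h => ?_) x (fun g => hx g⁻¹)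
    · exact ULift.ext _ _ (by
        show (h.down ≫ act E L g⁻¹) ≫ act E L g = h.down
        rw [Category.assoc, act_mul, inv_mul_cancel, act_one, Category.comp_id])
    · obtain ⟨g₀, hg₀, hu⟩ := exists_unique_act E L Ω (ζ ≫ h.down.left) (ζ ≫ h₀.left) (by
        rw [Category.assoc, Category.assoc, MorphismProperty.Over.w, MorphismProperty.Over.w])
      refine ⟨g₀⁻¹, ?_, fun g hg => inv_eq_iff_eq_inv.1 (hu g⁻¹ ?_)⟩
      · show ζ ≫ h.down.left ≫ (act E L g₀⁻¹⁻¹).left = _
        rw [inv_inv, ← Category.assoc]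
        exact hg₀
      · show (ζ ≫ h.down.left) ≫ (act E L g⁻¹).left = _
        exact (Category.assoc _ _ _).trans hg
  · haveI : IsEmpty (ULift.{u + 1} (Z ⟶ galObj E L)) := ⟨fun h => hne ⟨h.down⟩⟩
    exact ⟨0, Subsingleton.elim _ _⟩

theorem sum_app_apply {C : Type*} [Category.{u} C] {F G : Cᵒᵖ ⥤ AddCommGrpCat.{u + 1}} {ι : Type*} (t : Finset ι)
    (f : ι → (F ⟶ G)) (W : Cᵒᵖ) (c : F.obj W) : (∑ i ∈ t, f i).app W c = ∑ i ∈ t, (f i).app W c :=
  map_sum (AddMonoidHom.mk' (fun φ : F ⟶ G => φ.app W c) fun _ _ => rfl) _ _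

theorem map_act_act {Z : (Spec (CommRingCat.of E)).Etale} (g h : L ≃ₐ[E] L)
    (x : FreeAbelianGroup (ULift.{u + 1} (Z ⟶ galObj E L))) :
    FreeAbelianGroup.map (fun h : ULift.{u + 1} (Z ⟶ galObj E L) => ULift.up.{u + 1} (h.down ≫ act E L g))
      (FreeAbelianGroup.map (fun a : ULift.{u + 1} (Z ⟶ galObj E L) => ULift.up.{u + 1} (a.down ≫ act E L h)) x) =
      FreeAbelianGroup.map (fun a : ULift.{u + 1} (Z ⟶ galObj E L) => ULift.up.{u + 1} (a.down ≫ act E L (h * g))) x := by
  rw [← FreeAbelianGroup.map_comp_apply]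
  refine congrArg (fun k => FreeAbelianGroup.map k x) (funext fun a => ULift.ext _ _ ?_)
  show (a.down ≫ act E L h) ≫ act E L g = _
  rw [Category.assoc, act_mul]

theorem map_act_one {Z : (Spec (CommRingCat.of E)).Etale} (x : FreeAbelianGroup (ULift.{u + 1} (Z ⟶ galObj E L))) :
    FreeAbelianGroup.map (fun h : ULift.{u + 1} (Z ⟶ galObj E L) => ULift.up.{u + 1} (h.down ≫ act E L 1)) x = x := by
  simp only [act_one, Category.comp_id]
  exact FreeAbelianGroup.map_id_apply x

theorem exists_eq_sum_of_kernel [Fintype (L ≃ₐ[E] L)] (σ : L ≃ₐ[E] L) (hσ : ∀ τ, τ ∈ Subgroup.zpowers σ)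
    (Z : (Spec (CommRingCat.of E)).Etale) (z : Z.left)
    (x : ((fp.{u + 1} _).obj (galObj E L)).obj (op Z))
    (hx : ((fp.{u + 1} _).map (act E L σ) - 𝟙 _).app (op Z) x = 0) :
    ∃ y, (∑ g, (fp.{u + 1} _).map (act E L g)).app (op Z) y = x := by
  have hx' : ((fp.{u + 1} _).map (act E L σ)).app (op Z) x = x := sub_eq_zero.1 hx
  obtain ⟨y, hy⟩ := exists_eq_sum_act Z z x
    (forall_fixed_of_generator _ map_act_one map_act_act σ hσ _ hx')
  exact ⟨y, (sum_app_apply _ _ _ _).trans hy⟩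

/-- norm zero sections of an injective sheaf over a cyclic extension -/
theorem exists_sub_eq_of_sum_eq_zero [Fintype (L ≃ₐ[E] L)] (I : EtCoh.Ab (Spec (CommRingCat.of E))) [Injective I]
    (σ : L ≃ₐ[E] L) (hσ : ∀ τ, τ ∈ Subgroup.zpowers σ) (b : I.obj.obj (op (galObj E L)))
    (hb : ∑ g, res I.obj (act E L g) b = 0) :
    ∃ m, res I.obj (act E L σ) m - m = b := by
  haveI : Injective I.obj :=
    Injective.injective_of_adjoint (sheafificationAdjunction _ AddCommGrpCat.{u + 1}) I
  let P := (fp.{u + 1} _).obj (galObj E L)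
  let δ : P ⟶ P := (fp.{u + 1} _).map (act E L σ) - 𝟙 _
  let φ : P ⟶ I.obj := fpDesc.{u + 1} I.obj b
  let e₀ : P.obj (op (galObj E L)) := FreeAbelianGroup.of (ULift.up.{u + 1} (𝟙 (galObj E L)))
  have hν : (∑ g, (fp.{u + 1} _).map (act E L g)) ≫ φ = 0 := by
    refine fp_hom_ext.{u + 1} ?_
    rw [Preadditive.sum_comp]
    refine (sum_app_apply _ _ _ e₀).trans ?_
    refine (Finset.sum_congr rfl fun g _ => ?_).trans hb
    exact (fpVal_map.{u + 1} (act E L g) φ).trans (congrArg (res I.obj _) (fpVal_desc.{u + 1} I.obj b))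
  have hker : kernel.ι δ ≫ φ = 0 := by
    refine NatTrans.ext (funext fun W => AddCommGrpCat.hom_ext (AddMonoidHom.ext fun k => ?_))
    obtain ⟨Z⟩ := W
    show φ.app (op Z) ((kernel.ι δ).app (op Z) k) = 0
    by_cases hne : Nonempty Z.left
    · obtain ⟨z⟩ := hne
      obtain ⟨y, hy⟩ := exists_eq_sum_of_kernel σ hσ Z z ((kernel.ι δ).app (op Z) k)
        (congrArg (fun q : kernel δ ⟶ P => q.app (op Z) k) (kernel.condition δ))
      rw [← hy]
      exact congrArg (fun q : P ⟶ I.obj => q.app (op Z) y) hν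
    · haveI : Subsingleton (I.obj.obj (op Z)) :=
        ⟨fun a c => Groth.L27.EtSite.ext_of_locally I fun z => absurd ⟨z⟩ hne⟩
      exact Subsingleton.elim _ _
  let S : ShortComplex ((Spec (CommRingCat.of E)).Etaleᵒᵖ ⥤ AddCommGrpCat.{u + 1}) :=
    ShortComplex.mk (kernel.ι δ) δ (kernel.condition δ)
  have hS : S.Exact := ShortComplex.exact_of_f_is_kernel _ (kernelIsKernel δ)
  let ψ : P ⟶ I.obj := hS.descToInjective φ hker
  refine ⟨fpVal.{u + 1} ψ, ?_⟩
  have h : δ ≫ ψ = φ := hS.comp_descToInjective φ hker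
  refine Eq.trans ?_ ((congrArg fpVal.{u + 1} h).trans (fpVal_desc.{u + 1} I.obj b))
  rw [Preadditive.sub_comp, Category.id_comp]
  show _ = fpVal.{u + 1} ((fp.{u + 1} _).map (act E L σ) ≫ ψ) - fpVal.{u + 1} ψ
  rw [fpVal_map.{u + 1}]

end Groth.L28.EtTrace
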