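import Groth.Agent.L28.EtTrace.FieldGm
import Groth.Agent.L28.Flasque.Rpush
import Groth.Agent.S0229
import Mathlib.RingTheory.Etale.Field
import Mathlib.AlgebraicGeometry.Limits

/-!
The multiplicative group on affine étale schemes over a field.
-/

set_option autoImplicit false
set_option linter.style.haveILetI false
set_option linter.unusedSectionVars false
set_option backward.isDefEq.respectTransparency.types false

universe u

open CategoryTheory CategoryTheory.Limits AlgebraicGeometry Opposite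

namespace Groth.L28.EtTrace

theorem subsingleton_H_of_iso {X : Scheme.{u}} {F G : EtCoh.Ab X} (e : F ≅ G) (q : ℕ)
    (h : Subsingleton (EtCoh.H X G q)) : Subsingleton (EtCoh.H X F q) :=
  subsingleton_of_forall_eq 0 fun x => (HF_map_eq_zero_iff e q x).1 (@Subsingleton.elim _ h _ _)

/-- acyclicity of the multiplicative group on affine étale schemes over a field -/
theorem subsingleton_gm_etale (K : Type u) [Field K]
    (hK : ∀ (E : Type u) [Field E] [Algebra K E] [FiniteDimensional K E] [Algebra.IsSeparable K E] (q : ℕ),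
      Subsingleton (EtCoh.H (Spec (CommRingCat.of E)) (EtCoh.Gm (Spec (CommRingCat.of E))) (q + 1)))
    (W : Scheme.{u}) [IsAffine W] (w : W ⟶ Spec (CommRingCat.of K)) [AlgebraicGeometry.Etale w] (q : ℕ) :
    Subsingleton (EtCoh.H W (EtCoh.Gm W) (q + 1)) := by
  let φ : K →+* Γ(W, ⊤) := w.appTop.hom.comp (Scheme.ΓSpecIso (CommRingCat.of K)).inv.hom
  letI := φ.toAlgebra
  haveI : Algebra.Etale K Γ(W, ⊤) :=
    RingHom.Etale.respectsIso.2 w.appTop.hom (Scheme.ΓSpecIso (CommRingCat.of K)).symm.commRingCatIsoToRingEquiv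
      (HasRingHomProperty.appTop @AlgebraicGeometry.Etale w ‹_›)
  obtain ⟨I, _, Ai, _, _, e, hfs⟩ := (Algebra.Etale.iff_exists_algEquiv_prod K Γ(W, ⊤)).1 ‹_›
  let R : I → CommRingCat.{u} := fun i => CommRingCat.of (Ai i)
  let θ : Spec (CommRingCat.of (Π i, R i)) ≅ W :=
    Scheme.Spec.mapIso (e.toRingEquiv.toCommRingCatIso).op ≪≫ W.isoSpec.symm
  let c : ∀ i, Spec (R i) ⟶ W := fun i => Spec.map (CommRingCat.ofHom (Pi.evalRingHom (R ·) i)) ≫ θ.hom
  haveI : ∀ i, IsOpenImmersion (c i) := fun i => inferInstance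
  let V : I → W.Etale := fun i => Scheme.Etale.mk (c i)
  haveI : ∀ i, IsOpenImmersion (V i).hom := fun i => inferInstanceAs (IsOpenImmersion (c i))
  have hd : Pairwise fun i j => Disjoint (Set.range (V i).hom) (Set.range (V j).hom) := fun i j hij => by
    refine Set.disjoint_left.2 ?_
    rintro _ ⟨a, rfl⟩ ⟨b, hb⟩
    have h1 : Spec.map (CommRingCat.ofHom (Pi.evalRingHom (R ·) i)) a =
        Spec.map (CommRingCat.ofHom (Pi.evalRingHom (R ·) j)) b := by
      refine θ.hom.homeomorph.injective ?_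
      show θ.hom _ = θ.hom _
      rw [← Scheme.Hom.comp_apply, ← Scheme.Hom.comp_apply]
      exact hb.symm
    classical
    have h2 : Pi.single i (1 : R i) ∈ (Spec.map (CommRingCat.ofHom (Pi.evalRingHom (R ·) j)) b).asIdeal := by
      show Pi.evalRingHom (R ·) j (Pi.single i 1) ∈ b.asIdeal
      rw [Pi.evalRingHom_apply, Pi.single_eq_of_ne (Ne.symm hij)]
      exact Ideal.zero_mem _
    rw [← h1] at h2
    have h3 : Pi.evalRingHom (R ·) i (Pi.single i 1) ∈ a.asIdeal := h2
    rw [Pi.evalRingHom_apply, Pi.single_eq_same] at h3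
    exact a.isPrime.ne_top ((Ideal.eq_top_iff_one _).2 h3)
  have hc : ∀ x : W, ∃ i y, (V i).hom y = x := fun x => by
    obtain ⟨y, hy⟩ := (sigmaSpec R ≫ θ.hom).surjective x
    obtain ⟨i, z, hz⟩ : ∃ i z, Sigma.ι (fun i => Spec (R i)) i z = y := (sigmaOpenCover _).exists_eq y
    refine ⟨i, z, ?_⟩
    show c i z = x
    rw [← hy, ← hz, ← Scheme.Hom.comp_apply, ← Category.assoc, ι_sigmaSpec]
  refine Groth.L28.Flasque.subsingleton_H_disjoint V hd hc q (EtCoh.Gm W) fun i r hr => ?_
  obtain ⟨r, rfl⟩ : ∃ j, r = j + 1 := ⟨r - 1, by omega⟩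
  haveI := (hfs i).1
  haveI := (hfs i).2
  haveI := Groth.L27.ExtZero.jCont (c i)
  exact subsingleton_H_of_iso (pullGm (c i)) (r + 1) (hK (Ai i) r)

/-- the trdeg one case -/
theorem subsingleton_gm_etale_trdeg (k : Type u) [Field k] [IsAlgClosed k] (K : Type u) [Field K] [Algebra k K]
    (hK : Algebra.trdeg k K = 1) (W : Scheme.{u}) [IsAffine W] (w : W ⟶ Spec (CommRingCat.of K))
    [AlgebraicGeometry.Etale w] (q : ℕ) : Subsingleton (EtCoh.H W (EtCoh.Gm W) (q + 1)) := by
  refine subsingleton_gm_etale K (fun E _ _ _ _ q => ?_) W w q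
  letI : Algebra k E := ((algebraMap K E).comp (algebraMap k K)).toAlgebra
  haveI : IsScalarTower k K E := IsScalarTower.of_algebraMap_eq' rfl
  exact Groth.Agent.S0229.result k E (trdeg_finite_ext k K hK E) (q + 1) (by omega)

end Groth.L28.EtTrace
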